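import Cfsg.Agent.H905.MdH_m3
import Cfsg.Prelude.Def_GeometricClasses
import Cfsg.Agent.H12.EP.Own
import Cfsg.Agent.H341.ThreeList_m3
import Cfsg.Agent.KFacts.RgdFiltClass
import Cfsg.Agent.S0293
import Cfsg.Agent.S0294
import Cfsg.Agent.S0814
import Cfsg.Agent.S0817
import Cfsg.Agent.S0818
import Cfsg.Agent.H528.EP.UB3_m3
import Cfsg.Agent.H914.Quad
import Cfsg.Agent.H982.EP.Trans_m3
import Cfsg.Agent.H650.Ppd.Psp_m3
import Cfsg.Agent.H576.HT.Omega
import Cfsg.Agent.FastGrp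
import Cfsg.Agent.Prune
set_option linter.all false

section
prune_inst 0x7fffbdfdfbbb55deffff7e7ff6d8cffc3a921fffe6dff94b7fe86bffbbdf23100be52b898de0b0fe0ed6623d10b87843fbfffeffe26ffc7ffffdfff45ffbee5ff7ffbd0871968c340fbc6ffff3f0778e7f3fffffffffffffffffffffffffffbeffbfffffffff

-- part: H987/EP/Form
section
prune_inst 0x20044aa210000018001060001c1292000002004b00000100000005c8cc41204306213060071211100c6408380040001000800028000000000000411800800000000080080000200000008000000000000000000000000000000000000000000000000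
set_option linter.all false
open scoped Cfsg.Agent.FastGrp

-- part: H987/EP/SelfDual
section
/-!
# The support of a self-dual simple module is symmetric (helper987, S3499 task 6108)

`R : RGD cs h p T n X`, `ρ` simple in characteristic `p`, `Jx` = the nodes `i` such that `X_{-i}` fixes `V^U`.

* `mem_Jx_iff` : `i ∈ Jx` iff `dim V^{V_i} = dim V^U`;
* `finrank_fx_dual` : `dim (V^*)^{V_J^-} = dim V^{V_J}`;
* **`mem_Jx_opp`** : if `dim V^B = dim (V^*)^B` for all subgroups `B` and `w₀ α_i = -α_{τ i}` then `i ∈ Jx ↔ τ i ∈ Jx`;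
* `finrank_fx_of_semilinear` : the hypothesis holds if there is an invariant nondegenerate sesquilinear form.
-/

set_option autoImplicit false
set_option linter.unusedSectionVars false
set_option linter.style.haveILetI false

namespace Cfsg.Agent.H987.EP

open CoxeterSystem Cfsg.Agent.ChevalleyStructure.CoxeterGeom Cfsg.Agent.Tits.Roots Cfsg.Agent.Tits.Core
  Cfsg.Agent.Tits.Exchange Cfsg.Agent.Nodes.Reps Cfsg.Agent.Nodes.BNOf Cfsg.Agent.Nodes.StabComb
  Cfsg.Agent.Nodes.Bruhat Cfsg.Agent.Nodes.OppDec Cfsg.Agent.Nodes.LeviDec Cfsg.Agent.KFacts.RgdOpp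
  Cfsg.Agent.Omega.CR Cfsg.Agent.Omega.FOne.Lift.Sd Cfsg.Agent.H905.Md

variable {I W Y : Type*} [Fintype I] [DecidableEq I] [Group W] [Group Y] {M : CoxeterMatrix I}
  {cs : CoxeterSystem M W} {A : I → I → ℤ} {h : IsCartan M A} {p : ℕ} {T : Subgroup Y} {n : I → Y}
  {X : (I → ℤ) → Subgroup Y}

variable {k V : Type*} [Field k] [AddCommGroup V] [Module k V]

section roots

/-- the coordinates of `w x` -/
theorem rep_coord {w : W} {τ : Equiv.Perm I} (hw : ∀ i, rep cs h w (sr i) = -sr (τ i)) (x : I → ℤ) (i : I) :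
    rep cs h w x (τ i) = - x i := by
  have h1 : (LinearMap.proj (τ i) : (I → ℤ) →ₗ[ℤ] ℤ).comp (rep cs h w) = -LinearMap.proj i := by
    refine LinearMap.pi_ext' fun j => LinearMap.ext_ring ?_
    change rep cs h w (sr j) (τ i) = -((sr j : I → ℤ) i)
    rw [hw, Pi.neg_apply]
    congr 1
    by_cases hji : j = i
    · subst hji
      rw [sr_self, sr_self]
    · rw [sr_ne (Ne.symm hji), sr_ne (fun e => hji (τ.injective e).symm)]
  exact congrArg (fun f : (I → ℤ) →ₗ[ℤ] ℤ => f x) h1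

theorem rep_nonneg {w : W} {τ : Equiv.Perm I} (hw : ∀ i, rep cs h w (sr i) = -sr (τ i)) {x : I → ℤ} (hx : 0 ≤ x) :
    0 ≤ -rep cs h w x := by
  intro j
  obtain ⟨i, rfl⟩ := τ.surjective j
  rw [Pi.neg_apply, rep_coord hw, neg_neg]
  exact hx i

end roots

section

variable (R : RGD cs h p T n X) [Finite Y] [Finite W] [Fact p.Prime] [CharP k p]
  {ρ : Y →* Module.End k V} [FiniteDimensional k V]
  (hirr : ∀ L : Submodule k V, Ivt ρ (GG cs h T X) L → L = ⊥ ∨ L = ⊤)
include R hirr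

/-- the nodes of `Jx` by a dimension -/
theorem mem_Jx_iff [Nontrivial V] (i : I) : i ∈ Jx cs h X ρ ↔
    Module.finrank k (fx ρ (VJ cs h X {i})) = Module.finrank k (D cs h X ρ) := by
  constructor
  · intro hi
    rw [← Le_eq R hirr {i}, Le_single R hirr i]
    have h1 : Sp ρ (X (-sr i)) (D cs h X ρ) = D cs h X ρ := by
      refine le_antisymm (Sp_le le_rfl fun x hx v hv => ?_) (le_Sp ρ)
      rw [hi x hx v hv]
      exact hv
    rw [h1]
  · intro hd
    have h1 : D cs h X ρ = Le cs h T X ρ {i} := by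
      refine Submodule.eq_of_le_of_finrank_le (D_le_Le R _) ?_
      rw [Le_eq R hirr, hd]
    have h2 : (D cs h X ρ).map (ρ (n i)) = D cs h X ρ := by
      rw [h1, n_Le R i]
    intro x hx v hv
    have hv' : ρ (n i)⁻¹ v ∈ D cs h X ρ := by
      have h3 : v ∈ (D cs h X ρ).map (ρ (n i)) := by rw [h2]; exact hv
      obtain ⟨u, hu, rfl⟩ := h3
      rw [rho_inv_rho]
      exact hu
    have h4 : (n i)⁻¹ * x * n i ∈ X (sr i) := by
      have h5 := R.conj_mem' (rp_simple cs R.nsys i) (isRoot_sr cs h i).neg hx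
      rwa [cs.inv_simple, map_neg, rep_simple_sr, neg_neg] at h5
    have e : x = n i * ((n i)⁻¹ * x * n i) * (n i)⁻¹ := by group
    rw [e, rho_mul, rho_mul, X_fix R ρ hv' i h4, rho_rho_inv]

/-- the dual of a parabolic fixed space -/
theorem finrank_fx_dual [Nontrivial V] (J : Set I) :
    Module.finrank k (fx ((dualRep ρ :)) (VNJ cs h X J)) = Module.finrank k (fx ρ (VJ cs h X J)) := by
  have e0 := finrank_chain R hirr J
  have e2 := Submodule.finrank_mono (Les_le_fx R (ρ := ρ) J)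
  have e3 := finrank_le_of_pair' (A := Le cs h T X ρ J) (B := fx (dualRep ρ) (VNJ cs h X J))
    fun φ hφ h0 => pair_fx' R hirr hφ h0
  omega

omit hirr in
/-- the fixed space of the opposite radical -/
theorem finrank_fx_opp {w : W} {τ : Equiv.Perm I} (hw : ∀ i, rep cs h w (sr i) = -sr (τ i)) (i : I) :
    Module.finrank k (fx ρ (VNJ cs h X {τ i})) = Module.finrank k (fx ρ (VJ cs h X {i})) := by
  obtain ⟨g, hg⟩ := exists_rp cs R.nsys w
  have h1 : cj g (VJ cs h X {i}) ≤ VNJ cs h X {τ i} := by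
    refine cj_Sup_le R hg (fun x hx => hx.1) ?_
    rintro x ⟨hx, hx0, k, hk, hkx⟩
    refine ⟨(hx.act w).neg, rep_nonneg hw hx0, τ k, fun e => hk (τ.injective e), ?_⟩
    rw [Pi.neg_apply, rep_coord hw, neg_neg]
    exact hkx
  have h2 : cj g⁻¹ (VNJ cs h X {τ i}) ≤ VJ cs h X {i} := by
    refine cj_Sup_le R hg.inv (fun x hx => by simpa using hx.1.neg) ?_
    rintro x ⟨hx, hx0, k, hk, hkx⟩
    have hx' : IsRoot cs h x := by simpa using hx.neg
    obtain ⟨k', rfl⟩ := τ.surjective k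
    have key : ∀ j, rep cs h w⁻¹ x j = - x (τ j) := by
      intro j
      have h3 := rep_coord (cs := cs) (h := h) hw (rep cs h w⁻¹ x) j
      rw [rep_apply_inv] at h3
      omega
    refine ⟨hx'.act w⁻¹, fun j => ?_, k', fun e => hk (congrArg τ e), ?_⟩
    · rw [key]
      exact hx0 (τ j)
    · rw [key]
      exact hkx
  have h3 : cj g (VJ cs h X {i}) = VNJ cs h X {τ i} := by
    refine le_antisymm h1 fun x hx => ?_
    rw [mem_cj]
    apply h2
    rw [mem_cj]
    have e : g⁻¹⁻¹ * (g⁻¹ * x * g) * g⁻¹ = x := by group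
    rw [e]
    exact hx
  rw [← h3, ← map_fx]
  exact finrank_map g _

/-- **The support of a self-dual module is symmetric.** -/
theorem mem_Jx_opp [Nontrivial V]
    (hsd : ∀ B : Subgroup Y, Module.finrank k (fx ρ B) = Module.finrank k (fx ((dualRep ρ :)) B))
    {w : W} {τ : Equiv.Perm I} (hw : ∀ i, rep cs h w (sr i) = -sr (τ i)) (i : I) :
    i ∈ Jx cs h X ρ ↔ τ i ∈ Jx cs h X ρ := by
  rw [mem_Jx_iff R hirr, mem_Jx_iff R hirr, ← finrank_fx_opp R hw i, hsd, finrank_fx_dual R hirr]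

end

/-! ### sesquilinear forms -/

section sesq

variable {G : Type*} [Group G] [FiniteDimensional k V] {ρ : G →* Module.End k V}

/-- a semilinear isomorphism onto the dual -/
theorem finrank_fx_of_semilinear (σ : k ≃+* k) (Θ : V ≃+ Module.Dual k V) (hs : ∀ (c : k) v, Θ (c • v) = σ c • Θ v)
    (he : ∀ g v, Θ (ρ g v) = dualRep ρ g (Θ v)) (B : Subgroup G) :
    Module.finrank k (fx ρ B) = Module.finrank k (fx ((dualRep ρ :)) B) := by
  have hm : ∀ v, v ∈ fx ρ B ↔ Θ v ∈ fx ((dualRep ρ :)) B := by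
    intro v
    constructor
    · intro hv b hb
      rw [← he, hv b hb]
    · intro hv b hb
      apply Θ.injective
      rw [he, hv b hb]
  let j : fx ρ B ≃+ fx ((dualRep ρ :)) B :=
    { toFun := fun v => ⟨Θ v.1, (hm _).1 v.2⟩
      invFun := fun w => ⟨Θ.symm w.1, (hm _).2 (by rw [Θ.apply_symm_apply]; exact w.2)⟩
      left_inv := fun v => Subtype.ext (Θ.symm_apply_apply _)
      right_inv := fun v => Subtype.ext (Θ.apply_symm_apply _)
      map_add' := fun v w => Subtype.ext (map_add Θ _ _) }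
  have h1 := lift_rank_eq_of_equiv_equiv (R := k) (R' := k) (M := fx ρ B) (M' := fx ((dualRep ρ :)) B) σ j σ.bijective
    (fun c v => Subtype.ext (hs c v.1))
  have h2 := congrArg Cardinal.toNat h1
  rwa [Cardinal.toNat_lift, Cardinal.toNat_lift] at h2

end sesq

end Cfsg.Agent.H987.EP
end

-- part: H987/EP/Form
section
/-!
# Forms and the dual over the algebraic closure (helper987, S3499 task 6108)

* `SForm σ f` : `f` linear on the left, `σ`-semilinear on the right, nondegenerate;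
* **`hsd_of_form`** : if `f` is invariant under `φ`, then `V ⊗ \bar F` and its dual have fixed spaces of the same
  dimension for all subgroups;
* `SForm.of_symplectic`, `of_unitary`, `of_quadratic`.
-/

set_option autoImplicit false
set_option linter.unusedSectionVars false
set_option linter.style.haveILetI false

namespace Cfsg.Agent.H987.EP

open Matrix Cfsg.Agent.Omega.CR Cfsg.Agent.H905.Md Cfsg.Agent.H911

/-- `f` linear on the left, `σ`-semilinear on the right, nondegenerate -/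
structure SForm {ι : Type} {F : Type*} [Field F] (σ : F ≃+* F) (f : (ι → F) → (ι → F) → F) : Prop where
  add_left : ∀ x y v, f (x + y) v = f x v + f y v
  smul_left : ∀ (c : F) x v, f (c • x) v = c * f x v
  add_right : ∀ v x y, f v (x + y) = f v x + f v y
  smul_right : ∀ (c : F) v x, f v (c • x) = σ c * f v x
  nondeg : ∀ y, (∀ x, f x y = 0) → y = 0

namespace SForm

variable {ι : Type} [Fintype ι] [DecidableEq ι] {F : Type*} [Field F] {σ : F ≃+* F} {f : (ι → F) → (ι → F) → F}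

/-- the Gram matrix -/
def gram (f : (ι → F) → (ι → F) → F) : Matrix ι ι F := Matrix.of fun i j => f (Pi.single i 1) (Pi.single j 1)

theorem apply_eq (h : SForm σ f) (x y : ι → F) : f x y = x ⬝ᵥ (gram f *ᵥ fun j => σ (y j)) := by
  have hz : ∀ v, f 0 v = 0 := fun v => by
    have := h.smul_left 0 0 v
    rwa [zero_smul, zero_mul] at this
  have hz' : ∀ v, f v 0 = 0 := fun v => by
    have := h.smul_right 0 v 0
    rwa [zero_smul, map_zero, zero_mul] at this
  have h1 : ∀ (s : Finset ι) (x : ι → F) (v : ι → F), f (∑ i ∈ s, x i • Pi.single i (1 : F)) v =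
      ∑ i ∈ s, x i * f (Pi.single i 1) v := by
    classical
    intro s x v
    induction s using Finset.induction_on with
    | empty => rw [Finset.sum_empty, Finset.sum_empty, hz]
    | insert a s ha ih => rw [Finset.sum_insert ha, Finset.sum_insert ha, h.add_left, h.smul_left, ih]
  have h2 : ∀ (s : Finset ι) (y : ι → F) (v : ι → F), f v (∑ i ∈ s, y i • Pi.single i (1 : F)) =
      ∑ i ∈ s, σ (y i) * f v (Pi.single i 1) := by
    classical
    intro s y v
    induction s using Finset.induction_on with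
    | empty => rw [Finset.sum_empty, Finset.sum_empty, hz']
    | insert a s ha ih => rw [Finset.sum_insert ha, Finset.sum_insert ha, h.add_right, h.smul_right, ih]
  have e : ∀ x : ι → F, ∑ i, x i • Pi.single i (1 : F) = x := fun x => by
    ext j
    rw [Finset.sum_apply, Finset.sum_eq_single j]
    · simp
    · intro i _ hij
      simp [Pi.single_eq_of_ne hij.symm]
    · intro hj
      exact absurd (Finset.mem_univ _) hj
  conv_lhs => rw [← e x, ← e y]
  rw [h1]
  refine Finset.sum_congr rfl fun i _ => ?_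
  congr 1
  rw [h2]
  refine Finset.sum_congr rfl fun j _ => ?_
  rw [mul_comm]
  rfl

theorem det_gram (h : SForm σ f) : (gram f).det ≠ 0 := by
  intro h0
  obtain ⟨v, hv0, hv⟩ := (Matrix.exists_mulVec_eq_zero_iff).2 h0
  apply hv0
  have h1 : (fun j => σ.symm (v j)) = 0 := by
    apply h.nondeg
    intro x
    rw [h.apply_eq]
    have : (fun j => σ (σ.symm (v j))) = v := by
      funext j
      exact σ.apply_symm_apply _
    rw [this, hv, dotProduct_zero]
  funext j
  have h2 := congrFun h1 j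
  simpa using h2

/-- an isometry -/
theorem isom (h : SForm σ f) {g : Matrix ι ι F} (hg : ∀ x y, f (g *ᵥ x) (g *ᵥ y) = f x y) :
    gᵀ * gram f * g.map σ = gram f := by
  ext i j
  have h1 := hg (Pi.single i 1) (Pi.single j 1)
  rw [h.apply_eq, Matrix.mulVec_single_one, Matrix.mulVec_single_one] at h1
  have h2 : gram f i j = f (Pi.single i 1) (Pi.single j 1) := rfl
  rw [h2, ← h1, Matrix.mul_assoc, Matrix.mul_apply]
  refine Finset.sum_congr rfl fun a _ => ?_
  rw [Matrix.mul_apply]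
  rfl

/-- **The hypothesis of `mem_Jx_opp`.** -/
theorem hsd {G : Type*} [Group G] {φ : G →* GL ι F} (h : SForm σ f)
    (hf : ∀ g x y, f ((φ g : Matrix ι ι F) *ᵥ x) ((φ g : Matrix ι ι F) *ᵥ y) = f x y) (B : Subgroup G) :
    Module.finrank (AlgebraicClosure F) (fx (lin (acRep φ)) B) =
      Module.finrank (AlgebraicClosure F) (fx ((dualRep (lin (acRep φ)) :)) B) := by
  let τ : AlgebraicClosure F ≃+* AlgebraicClosure F :=
    IsAlgClosure.equivOfEquiv (AlgebraicClosure F) (AlgebraicClosure F) σ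
  have hτ : ∀ a : F, τ (algebraMap F (AlgebraicClosure F) a) = algebraMap F (AlgebraicClosure F) (σ a) := fun a =>
    IsAlgClosure.equivOfEquiv_algebraMap _ _ σ a
  set C : Matrix ι ι (AlgebraicClosure F) := (gram f).map (algebraMap F (AlgebraicClosure F)) with hC
  have hdet : C.det ≠ 0 := by
    have h1 : C.det = algebraMap F (AlgebraicClosure F) (gram f).det := by
      rw [hC]
      exact ((algebraMap F (AlgebraicClosure F)).map_det (gram f)).symm
    rw [h1]
    exact (map_ne_zero _).2 h.det_gram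
  have hu : IsUnit C := (Matrix.isUnit_iff_isUnit_det C).2 (isUnit_iff_ne_zero.2 hdet)
  have hun : C⁻¹ * C = 1 := Matrix.nonsing_inv_mul C (isUnit_iff_ne_zero.2 hdet)
  have hun' : C * C⁻¹ = 1 := Matrix.mul_nonsing_inv C (isUnit_iff_ne_zero.2 hdet)
  -- the isometries
  have hiso : ∀ g, (acRep φ g)ᵀ * C * (acRep φ g).map τ = C := by
    intro g
    have h1 := h.isom (hf g)
    have h2 := congrArg (fun N : Matrix ι ι F => N.map (algebraMap F (AlgebraicClosure F))) h1
    simp only [Matrix.map_mul] at h2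
    have e1 : ((φ g : Matrix ι ι F).map (algebraMap F (AlgebraicClosure F))).map τ =
        ((φ g : Matrix ι ι F).map σ).map (algebraMap F (AlgebraicClosure F)) := by
      ext i j
      exact hτ _
    rw [acRep_apply, e1, hC]
    exact h2
  -- the semilinear isomorphism
  let Θ : (ι → AlgebraicClosure F) ≃+ Module.Dual (AlgebraicClosure F) (ι → AlgebraicClosure F) :=
    { toFun := fun y => dotProductEquiv (AlgebraicClosure F) ι (C *ᵥ fun j => τ (y j))
      invFun := fun ψ => fun j => τ.symm ((C⁻¹ *ᵥ (dotProductEquiv (AlgebraicClosure F) ι).symm ψ) j)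
      left_inv := fun y => by
        funext j
        beta_reduce
        rw [LinearEquiv.symm_apply_apply, Matrix.mulVec_mulVec, hun, Matrix.one_mulVec, RingEquiv.symm_apply_apply]
      right_inv := fun ψ => by
        have e : (fun j => τ (τ.symm ((C⁻¹ *ᵥ (dotProductEquiv (AlgebraicClosure F) ι).symm ψ) j))) =
            C⁻¹ *ᵥ (dotProductEquiv (AlgebraicClosure F) ι).symm ψ := by
          funext j
          exact τ.apply_symm_apply _
        beta_reduce
        rw [e, Matrix.mulVec_mulVec, hun', Matrix.one_mulVec, LinearEquiv.apply_symm_apply]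
      map_add' := fun x y => by
        rw [← map_add, ← Matrix.mulVec_add]
        (with_reducible congr 2)
        funext j
        exact map_add τ _ _ }
  refine finrank_fx_of_semilinear τ Θ (fun c v => ?_) (fun g v => ?_) B
  · change dotProductEquiv (AlgebraicClosure F) ι (C *ᵥ fun j => τ ((c • v) j)) =
      τ c • dotProductEquiv (AlgebraicClosure F) ι (C *ᵥ fun j => τ (v j))
    rw [← map_smul, ← Matrix.mulVec_smul]
    (with_reducible congr 2)
    funext j
    exact map_mul τ _ _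
  · change dotProductEquiv (AlgebraicClosure F) ι (C *ᵥ fun j => τ (lin (acRep φ) g v j)) =
      dualRep (lin (acRep φ)) g (dotProductEquiv (AlgebraicClosure F) ι (C *ᵥ fun j => τ (v j)))
    have e1 : (fun j => τ (lin (acRep φ) g v j)) = (acRep φ g).map τ *ᵥ fun j => τ (v j) := by
      funext j
      rw [lin_apply]
      simp [Matrix.mulVec, dotProduct, map_sum, map_mul]
    have e2 : C * (acRep φ g).map τ = (acRep φ g⁻¹)ᵀ * C := by
      have h3 : (acRep φ g⁻¹)ᵀ * ((acRep φ g)ᵀ * C * (acRep φ g).map τ) = (acRep φ g⁻¹)ᵀ * C := by rw [hiso]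
      rw [← h3, ← Matrix.mul_assoc, ← Matrix.mul_assoc, ← Matrix.transpose_mul, ← map_mul, mul_inv_cancel, map_one,
        Matrix.transpose_one, Matrix.one_mul]
    rw [e1, Matrix.mulVec_mulVec, e2, ← Matrix.mulVec_mulVec]
    ext i
    simp only [LinearMap.comp_apply, dualRep_apply, dotProductEquiv_apply_apply, LinearMap.single_apply, lin_apply]
    rw [Matrix.mulVec_transpose, Matrix.dotProduct_mulVec]

omit [Fintype ι] [DecidableEq ι] in
theorem of_bilinear (hf : Cfsg.Geo.IsBilinearForm f) (hn : Cfsg.Geo.IsNondegenerateForm f) :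
    SForm (RingEquiv.refl F) f where
  add_left x y v := hf.add_left x y v
  smul_left c x v := hf.smul_left c x v
  add_right v x y := hf.add_right v x y
  smul_right c v x := hf.smul_right c v x
  nondeg y hy := by
    by_contra h0
    obtain ⟨⟨x, hx⟩, -⟩ := hn y h0
    exact hx (hy x)

omit [Fintype ι] [DecidableEq ι] in
theorem of_symplectic (hf : Cfsg.Geo.IsSymplecticForm f) : SForm (RingEquiv.refl F) f :=
  of_bilinear hf.bilinear hf.nondegenerate

omit [Fintype ι] [DecidableEq ι] in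
theorem of_quadratic {Q : (ι → F) → F} (hQ : Cfsg.Geo.IsNondegenerateQuadraticForm Q) :
    SForm (RingEquiv.refl F) (QuadraticMap.polar Q) := of_bilinear hQ.polar_bilinear hQ.nondegenerate

omit [Fintype ι] [DecidableEq ι] in
theorem of_unitary (hf : Cfsg.Geo.IsUnitaryForm σ f) : SForm σ f where
  add_left := hf.add_left
  smul_left := hf.smul_left
  add_right v x y := by rw [hf.herm, hf.add_left, map_add, ← hf.herm, ← hf.herm]
  smul_right c v x := by rw [hf.herm, hf.smul_left, map_mul, ← hf.herm]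
  nondeg y hy := by
    by_contra h0
    obtain ⟨⟨x, hx⟩, -⟩ := hf.nondegenerate y h0
    exact hx (hy x)

end SForm

end Cfsg.Agent.H987.EP
end

private theorem dce_65c1098cb9f2 : _root_.True := by
  try have : _root_.True := by simp only [_root_.Cfsg.Agent.H987.EP.SForm.gram.congr_simp]
  exact _root_.True.intro
end

-- part: H12/EP/GalTwo
section
set_option linter.all false
open scoped Cfsg.Agent.FastGrp

/-!
# S3499-VII-BT-COUNT (helper12), part 4: the Galois numbers for the groups over the field with two elements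

`fam b m = ∏_{i=1}^m (b ^ i - 1)`, `b = 2, 4`.

* `galSum_fam_two` : `galSum (fam 2 m) ≤ 2 ^ (m ^ 2 - 2)` (`m ≥ 3`);
* `galSum_fam_four` : `galSum (fam 4 m) ≤ 2 ^ (2 m ^ 2 - m - 1)` (`m ≥ 3`);
* `galSumNe_le` : `n ∣ 2 ^ N * k` gives `galSumNe 2 n ≤ galSum k`.
-/

set_option autoImplicit false

namespace Cfsg.Agent.H12.EP.BT

open Cfsg.Agent.H59.EP Cfsg.Agent.H528.EP

/-- `∏_{i=1}^m (b ^ i - 1)` -/
def fam (b : ℕ) : ℕ → ℕ
  | 0 => 1
  | m + 1 => fam b m * (b ^ (m + 1) - 1)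

theorem fam_pos {b : ℕ} (hb : 2 ≤ b) (m : ℕ) : 0 < fam b m := by
  induction m with
  | zero => exact Nat.one_pos
  | succ m ih =>
    have h1 : 1 < b ^ (m + 1) := Nat.one_lt_pow (by omega) (by omega)
    exact Nat.mul_pos ih (by omega)

/-- the `s`-part of `fam b m`, `e` the order of `b` modulo `s` -/
theorem factorization_fam {b s : ℕ} (hb : 2 ≤ b) (hs : s.Prime) (hs2 : s ≠ 2) {e : ℕ}
    (he : ∀ i, s ∣ b ^ i - 1 ↔ e ∣ i) (he0 : 0 < e) (hsb : ¬ s ∣ b) (m : ℕ) :
    (fam b m).factorization s = m / e * (b ^ e - 1).factorization s + (m / e).factorial.factorization s := by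
  induction m with
  | zero => simp [fam]
  | succ m ih =>
    have h1 : 1 < b ^ (m + 1) := Nat.one_lt_pow (by omega) (by omega)
    have h2 : fam b (m + 1) = fam b m * (b ^ (m + 1) - 1) := rfl
    rw [h2, Nat.factorization_mul (fam_pos hb m).ne' (by omega), Finsupp.add_apply, ih, Nat.succ_div]
    by_cases hd : e ∣ m + 1
    · rw [if_pos hd]
      obtain ⟨t, ht⟩ := hd
      have ht' : m / e + 1 = t := by
        have h3 : (m + 1) / e = m / e + if e ∣ m + 1 then 1 else 0 := Nat.succ_div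
        rw [if_pos ⟨t, ht⟩] at h3
        rw [← h3, ht, Nat.mul_div_cancel_left _ he0]
      have ht0 : t ≠ 0 := by
        rintro rfl
        simp at ht
      have h4 : (b ^ (m + 1) - 1).factorization s = (b ^ e - 1).factorization s + t.factorization s := by
        rw [ht, pow_mul]
        have hfact : Fact s.Prime := ⟨hs⟩
        have h5 : s ∣ b ^ e - 1 := (he e).2 (dvd_refl e)
        have hbe : 1 < b ^ e := Nat.one_lt_pow (by omega) (by omega)
        have h6 := padicValNat.pow_sub_pow (p := s) (x := b ^ e) (y := 1) (hs.odd_of_ne_two hs2) hbe h5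
          (fun h7 => hsb (hs.dvd_of_dvd_pow h7)) (n := t) ht0
        rw [one_pow] at h6
        rw [Nat.factorization_def _ hs, Nat.factorization_def _ hs, Nat.factorization_def _ hs]
        exact h6
      rw [h4, ht', ← ht', Nat.factorial_succ, Nat.factorization_mul (by omega) (Nat.factorial_ne_zero _),
        Finsupp.add_apply, ht']
      have : m / e = t - 1 := by omega
      rw [this]
      obtain ⟨t', rfl⟩ : ∃ t', t = t' + 1 := ⟨t - 1, by omega⟩
      rw [Nat.add_sub_cancel]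
      ring
    · rw [if_neg hd, Nat.factorization_eq_zero_of_not_dvd (fun h3 => hd ((he _).1 h3))]
      rfl

/-- the order of `b` modulo `s` -/
theorem exists_order {b s : ℕ} (hb : 2 ≤ b) (hs : s.Prime) (hsb : ¬ s ∣ b) :
    ∃ e, 0 < e ∧ ∀ i, s ∣ b ^ i - 1 ↔ e ∣ i := by
  have hfact : Fact s.Prime := ⟨hs⟩
  have hcop : Nat.Coprime b s := (hs.coprime_iff_not_dvd.2 hsb).symm
  refine ⟨orderOf (ZMod.unitOfCoprime b hcop), orderOf_pos _, fun i => ?_⟩
  rw [orderOf_dvd_iff_pow_eq_one, Units.ext_iff]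
  push_cast
  rw [ZMod.coe_unitOfCoprime, ← ZMod.natCast_eq_zero_iff, Nat.cast_sub (Nat.one_le_pow _ _ (by omega))]
  push_cast
  rw [sub_eq_zero]

/-- the order of the Sylow `s`-subgroup -/
theorem pow_factorization_fam_le {b s : ℕ} (hb : 2 ≤ b) (hs : s.Prime) (hs2 : s ≠ 2) {e : ℕ}
    (he : ∀ i, s ∣ b ^ i - 1 ↔ e ∣ i) (he0 : 0 < e) (hsb : ¬ s ∣ b) (m : ℕ) :
    s ^ (fam b m).factorization s ≤ b ^ m * 2 ^ (m / e) := by
  rw [factorization_fam hb hs hs2 he he0 hsb, pow_add]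
  apply Nat.mul_le_mul
  · rw [mul_comm, pow_mul]
    have hbe : 1 < b ^ e := Nat.one_lt_pow (by omega) (by omega)
    calc (s ^ (b ^ e - 1).factorization s) ^ (m / e) ≤ (b ^ e) ^ (m / e) := by
          apply Nat.pow_le_pow_left
          have := Nat.le_of_dvd (by omega) (Nat.ordProj_dvd (b ^ e - 1) s)
          omega
      _ = b ^ (e * (m / e)) := by rw [pow_mul]
      _ ≤ b ^ m := Nat.pow_le_pow_right (by omega) (Nat.mul_div_le m e)
  · have hfact : Fact s.Prime := ⟨hs⟩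
    have h1 : (s - 1) * (m / e).factorial.factorization s ≤ m / e := by
      rw [Nat.factorization_def _ hs, sub_one_mul_padicValNat_factorial (p := s) (m / e)]
      exact Nat.sub_le _ _
    calc s ^ (m / e).factorial.factorization s ≤ (2 ^ (s - 1)) ^ (m / e).factorial.factorization s := by
          apply Nat.pow_le_pow_left
          have h2 : ∀ k : ℕ, k + 1 ≤ 2 ^ k := fun k => Nat.lt_two_pow_self
          have h3 := h2 (s - 1)
          have := hs.pos
          omega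
      _ = 2 ^ ((s - 1) * (m / e).factorial.factorization s) := by rw [pow_mul]
      _ ≤ 2 ^ (m / e) := Nat.pow_le_pow_right (by norm_num) h1

theorem fam_le (b : ℕ) (m : ℕ) : fam b m ≤ b ^ (m * (m + 1) / 2) := by
  induction m with
  | zero => simp [fam]
  | succ m ih =>
    have h1 : (m + 1) * (m + 1 + 1) / 2 = m * (m + 1) / 2 + (m + 1) := by
      have : (m + 1) * (m + 1 + 1) = m * (m + 1) + 2 * (m + 1) := by ring
      rw [this, Nat.add_mul_div_left _ _ (by norm_num)]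
    rw [h1, pow_add]
    exact Nat.mul_le_mul ih (Nat.sub_le _ _)

theorem card_primeFactors_le {n k : ℕ} (hn : n ≠ 0) (hk : n ≤ 2 ^ k) : n.primeFactors.card ≤ k := by
  have h1 : 2 ^ n.primeFactors.card ≤ n := by
    calc 2 ^ n.primeFactors.card = ∏ _p ∈ n.primeFactors, 2 := by rw [Finset.prod_const]
      _ ≤ ∏ p ∈ n.primeFactors, p := Finset.prod_le_prod (fun _ _ => Nat.zero_le _) fun p hp =>
          (Nat.prime_of_mem_primeFactors hp).two_le
      _ ≤ n := Nat.le_of_dvd (by omega) (Nat.prod_primeFactors_dvd n)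
  exact (Nat.pow_le_pow_iff_right (by norm_num)).1 (h1.trans hk)

theorem galSum_le_of_forall {n k V : ℕ} (hn : n ≠ 0) (hk : n ≤ 2 ^ k)
    (hV : ∀ s ∈ n.primeFactors, gal s (n.factorization s) ≤ V) : galSum n ≤ k * V := by
  calc galSum n ≤ ∑ _s ∈ n.primeFactors, V := Finset.sum_le_sum hV
    _ = n.primeFactors.card * V := by rw [Finset.sum_const, smul_eq_mul]
    _ ≤ k * V := Nat.mul_le_mul_right _ (card_primeFactors_le hn hk)

/-- `fam b m` is odd for even `b` -/
theorem not_two_dvd_fam {b : ℕ} (hb2 : 2 ≤ b) (hb : 2 ∣ b) (m : ℕ) : ¬ 2 ∣ fam b m := by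
  induction m with
  | zero => simp [fam]
  | succ m ih =>
    intro h
    rcases (Nat.Prime.dvd_mul Nat.prime_two).1 (show 2 ∣ fam b m * (b ^ (m + 1) - 1) from h) with h1 | h1
    · exact ih h1
    · have h2 : 2 ∣ b ^ (m + 1) := hb.trans (dvd_pow_self b (by omega))
      have h3 : 1 ≤ b ^ (m + 1) := Nat.one_le_pow _ _ (by omega)
      omega

/-- the own prime 2 is excluded -/
theorem galSumNe_le {n N k : ℕ} (hk : k ≠ 0) (hn : n ∣ 2 ^ N * k) : galSumNe 2 n ≤ galSum k := by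
  have h0 : 2 ^ N * k ≠ 0 := Nat.mul_ne_zero (by positivity) hk
  have hn0 : n ≠ 0 := ne_zero_of_dvd_ne_zero h0 hn
  unfold galSumNe galSum
  have h1 : ∀ s ∈ n.primeFactors.erase 2, s ∈ k.primeFactors ∧ gal s (n.factorization s) ≤ gal s (k.factorization s) := by
    intro s hs
    obtain ⟨hs2, hs'⟩ := Finset.mem_erase.1 hs
    have hsp := Nat.prime_of_mem_primeFactors hs'
    have hsd := Nat.dvd_of_mem_primeFactors hs'
    have hsk : s ∣ k := by
      rcases (Nat.Prime.dvd_mul hsp).1 (hsd.trans hn) with h | h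
      · exact absurd ((Nat.prime_dvd_prime_iff_eq hsp Nat.prime_two).1 (hsp.dvd_of_dvd_pow h)) hs2
      · exact h
    refine ⟨Nat.mem_primeFactors.2 ⟨hsp, hsk, hk⟩, gal_mono s hsp.pos ?_⟩
    have h2 := (Nat.factorization_le_iff_dvd hn0 h0).2 hn s
    rw [Nat.factorization_mul (by positivity) hk, Finsupp.add_apply, Nat.prime_two.factorization_pow,
      Finsupp.single_eq_of_ne hs2, zero_add] at h2
    exact h2
  exact (Finset.sum_le_sum fun s hs => (h1 s hs).2).trans
    (Finset.sum_le_sum_of_subset fun s hs => (h1 s hs).1)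

theorem gal_le_of_pow {s v D T : ℕ} (hs : 3 ≤ s) (hv : 1 ≤ v) (hD : 0 < D)
    (h : s ^ (D * (v * (v + 3))) ≤ 2 ^ (4 * D * T)) : gal s v ≤ v * 2 ^ T := by
  refine (gal_le (by omega)).trans (Nat.mul_le_mul_left _ ?_)
  rw [← Nat.pow_le_pow_iff_left (show 4 * D ≠ 0 by omega)]
  calc (s ^ ((v + 1) ^ 2 / 4)) ^ (4 * D) = s ^ ((v + 1) ^ 2 / 4 * 4 * D) := by rw [← pow_mul, mul_assoc]
    _ ≤ s ^ (D * (v * (v + 3))) := by
        apply Nat.pow_le_pow_right (by omega)
        rw [mul_comm D]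
        apply Nat.mul_le_mul_right
        have : (v + 1) ^ 2 / 4 * 4 ≤ (v + 1) ^ 2 := Nat.div_mul_le_self _ _
        nlinarith
    _ ≤ 2 ^ (4 * D * T) := h
    _ = (2 ^ T) ^ (4 * D) := by rw [← pow_mul, mul_comm]

theorem gal_fam_four {m s : ℕ} (hs : s ∈ (fam 4 m).primeFactors) :
    gal s ((fam 4 m).factorization s) ≤ 2 * m * 2 ^ (3 * (m * (m + 1) / 2)) := by
  have hsp := Nat.prime_of_mem_primeFactors hs
  have hsd := Nat.dvd_of_mem_primeFactors hs
  have hs2 : s ≠ 2 := by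
    rintro rfl
    exact not_two_dvd_fam (by norm_num) (by norm_num) m hsd
  have hs3 : 3 ≤ s := by
    have := hsp.two_le
    omega
  have hsb : ¬ s ∣ 4 := by
    intro h
    have h1 : s ∣ 2 ^ 2 := h
    exact hs2 ((Nat.prime_dvd_prime_iff_eq hsp Nat.prime_two).1 (hsp.dvd_of_dvd_pow h1))
  obtain ⟨e, he0, he⟩ := exists_order (b := 4) (by norm_num) hsp hsb
  have h1 := pow_factorization_fam_le (b := 4) (by norm_num) hsp hs2 he he0 hsb m
  set v := (fam 4 m).factorization s with hv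
  have h2 : s ^ v ≤ 2 ^ (3 * m) := by
    refine h1.trans ?_
    calc 4 ^ m * 2 ^ (m / e) ≤ 4 ^ m * 2 ^ m := by
          apply Nat.mul_le_mul_left
          exact Nat.pow_le_pow_right (by norm_num) (Nat.div_le_self _ _)
      _ = 2 ^ (3 * m) := by rw [pow_mul, ← mul_pow]; norm_num
  have hv1 : 1 ≤ v := hsp.factorization_pos_of_dvd (fam_pos (by norm_num) m).ne' hsd
  have hm : v + 1 ≤ 2 * m := by
    have h3 : 3 ^ v < 3 ^ (2 * m) := by
      calc 3 ^ v ≤ s ^ v := Nat.pow_le_pow_left hs3 v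
        _ ≤ 2 ^ (3 * m) := h2
        _ = 8 ^ m := by rw [pow_mul]; norm_num
        _ < 9 ^ m := by
            apply Nat.pow_lt_pow_left (by norm_num)
            rintro rfl
            simp [fam] at hv
            omega
        _ = 3 ^ (2 * m) := by rw [pow_mul]; norm_num
    have := (Nat.pow_lt_pow_iff_right (by norm_num)).1 h3
    omega
  have hmm : m * (m + 1) / 2 * 2 = m * (m + 1) := Nat.div_mul_cancel (Nat.even_mul_succ_self m).two_dvd
  refine (gal_le_of_pow (D := 1) (T := 3 * (m * (m + 1) / 2)) hs3 hv1 (by norm_num) ?_).trans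
    (Nat.mul_le_mul_right _ (by omega))
  calc s ^ (1 * (v * (v + 3))) = (s ^ v) ^ (v + 3) := by rw [one_mul, pow_mul]
    _ ≤ (2 ^ (3 * m)) ^ (v + 3) := Nat.pow_le_pow_left h2 _
    _ ≤ (2 ^ (3 * m)) ^ (2 * m + 2) := Nat.pow_le_pow_right (by positivity) (by omega)
    _ = 2 ^ (4 * 1 * (3 * (m * (m + 1) / 2))) := by
        rw [← pow_mul]
        congr 1
        have : 4 * 1 * (3 * (m * (m + 1) / 2)) = 6 * (m * (m + 1) / 2 * 2) := by ring
        rw [this, hmm]
        ring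

theorem gal_fam_two {t s : ℕ} (hs : s ∈ (fam 2 (t + 5)).primeFactors) :
    gal s ((fam 2 (t + 5)).factorization s) ≤ (t + 5) * 2 ^ (t ^ 2 + 5 * t + 14) := by
  have hsp := Nat.prime_of_mem_primeFactors hs
  have hsd := Nat.dvd_of_mem_primeFactors hs
  have hs2 : s ≠ 2 := by
    rintro rfl
    exact not_two_dvd_fam (by norm_num) (by norm_num) _ hsd
  have hs3 : 3 ≤ s := by
    have := hsp.two_le
    omega
  have hsb : ¬ s ∣ 2 := by
    intro h
    exact hs2 ((Nat.prime_dvd_prime_iff_eq hsp Nat.prime_two).1 h)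
  obtain ⟨e, he0, he⟩ := exists_order (b := 2) (by norm_num) hsp hsb
  have h1 := pow_factorization_fam_le (b := 2) (by norm_num) hsp hs2 he he0 hsb (t + 5)
  have he2 : 2 ≤ e := by
    by_contra hlt
    have he1 : e = 1 := by omega
    subst he1
    have := (he 1).2 (dvd_refl 1)
    norm_num at this
    exact hsp.one_lt.ne' this
  set m := t + 5 with hm
  set v := (fam 2 m).factorization s with hv
  have h2 : s ^ (2 * v) ≤ 2 ^ (3 * m) := by
    calc s ^ (2 * v) = (s ^ v) ^ 2 := by rw [mul_comm, pow_mul]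
      _ ≤ (2 ^ m * 2 ^ (m / 2)) ^ 2 := by
          apply Nat.pow_le_pow_left
          refine h1.trans (Nat.mul_le_mul_left _ ?_)
          exact Nat.pow_le_pow_right (by norm_num) (Nat.div_le_div_left he2 (by norm_num))
      _ = 2 ^ (2 * m + m / 2 * 2) := by rw [← pow_add, ← pow_mul]; congr 1; ring
      _ ≤ 2 ^ (3 * m) := by
          apply Nat.pow_le_pow_right (by norm_num)
          have := Nat.div_mul_le_self m 2
          omega
  have hv1 : 1 ≤ v := hsp.factorization_pos_of_dvd (fam_pos (by norm_num) m).ne' hsd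
  have hvm : v < m := by
    have h3 : 3 ^ (2 * v) < 3 ^ (2 * m) := by
      calc 3 ^ (2 * v) ≤ s ^ (2 * v) := Nat.pow_le_pow_left hs3 _
        _ ≤ 2 ^ (3 * m) := h2
        _ = 8 ^ m := by rw [pow_mul]; norm_num
        _ < 9 ^ m := Nat.pow_lt_pow_left (by norm_num) (by omega)
        _ = 3 ^ (2 * m) := by rw [pow_mul]; norm_num
    have := (Nat.pow_lt_pow_iff_right (by norm_num)).1 h3
    omega
  refine (gal_le_of_pow (D := 2) (T := t ^ 2 + 5 * t + 14) hs3 hv1 (by norm_num) ?_).trans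
    (Nat.mul_le_mul_right _ hvm.le)
  calc s ^ (2 * (v * (v + 3))) = (s ^ (2 * v)) ^ (v + 3) := by rw [← pow_mul]; congr 1; ring
    _ ≤ (2 ^ (3 * m)) ^ (v + 3) := Nat.pow_le_pow_left h2 _
    _ ≤ (2 ^ (3 * m)) ^ (m + 2) := Nat.pow_le_pow_right (by positivity) (by omega)
    _ = 2 ^ (3 * m * (m + 2)) := by rw [← pow_mul]
    _ ≤ 2 ^ (4 * 2 * (t ^ 2 + 5 * t + 14)) := by
        apply Nat.pow_le_pow_right (by norm_num)
        rw [hm]
        nlinarith

theorem galSum_of_list {n V : ℕ} (l : List (ℕ × ℕ)) (h1 : ∀ x ∈ l, x.1.Prime ∧ 0 < x.2) (h2 : (l.map Prod.fst).Nodup)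
    (hn : n = (l.map fun x => x.1 ^ x.2).prod) (hV : (l.map fun x => gal x.1 x.2).sum ≤ V) : galSum n ≤ V := by
  rw [hn, (galSum_list l h1 h2).1]
  exact hV

/-- **`L_m(2)`** -/
theorem galSum_fam_two {m : ℕ} (hm : 3 ≤ m) : galSum (fam 2 m) ≤ 2 ^ (m ^ 2 - 2) := by
  rcases Nat.lt_or_ge m 5 with h5 | h5
  · interval_cases m
    · exact galSum_of_list [(3, 1), (7, 1)] (by norm_num) (by decide) (by decide) (by decide)
    · exact galSum_of_list [(3, 2), (5, 1), (7, 1)] (by norm_num) (by decide) (by decide) (by decide)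
  obtain ⟨t, rfl⟩ : ∃ t, m = t + 5 := ⟨m - 5, by omega⟩
  have h1 := galSum_le_of_forall (k := (t + 5) * (t + 5 + 1) / 2) (fam_pos (by norm_num) (t + 5)).ne'
    (fam_le 2 (t + 5)) (fun s hs => gal_fam_two hs)
  refine h1.trans ?_
  have h2 : ∀ t : ℕ, (t + 5) * (t + 5 + 1) * (t + 5) ≤ 2 * 2 ^ (9 + 5 * t) := by
    intro t
    induction t with
    | zero => norm_num
    | succ t ih =>
      have e : 2 ^ (9 + 5 * (t + 1)) = 32 * 2 ^ (9 + 5 * t) := by
        rw [show 9 + 5 * (t + 1) = 5 + (9 + 5 * t) by ring, pow_add]; norm_num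
      have key : 32 * ((t + 5) * (t + 5 + 1) * (t + 5)) = (t + 1 + 5) * (t + 1 + 5 + 1) * (t + 1 + 5) +
          (31 * t ^ 3 + 493 * t ^ 2 + 2600 * t + 4548) := by ring
      calc (t + 1 + 5) * (t + 1 + 5 + 1) * (t + 1 + 5) ≤ 32 * ((t + 5) * (t + 5 + 1) * (t + 5)) := by
            rw [key]; exact Nat.le_add_right _ _
        _ ≤ 32 * (2 * 2 ^ (9 + 5 * t)) := Nat.mul_le_mul_left _ ih
        _ = 2 * 2 ^ (9 + 5 * (t + 1)) := by rw [e]; ring
  have h3 : (t + 5) * (t + 5 + 1) / 2 * (t + 5) ≤ 2 ^ (9 + 5 * t) := by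
    have h4 := h2 t
    have h5 := Nat.div_mul_le_self ((t + 5) * (t + 5 + 1)) 2
    nlinarith
  calc (t + 5) * (t + 5 + 1) / 2 * ((t + 5) * 2 ^ (t ^ 2 + 5 * t + 14)) =
        (t + 5) * (t + 5 + 1) / 2 * (t + 5) * 2 ^ (t ^ 2 + 5 * t + 14) := by ring
    _ ≤ 2 ^ (9 + 5 * t) * 2 ^ (t ^ 2 + 5 * t + 14) := Nat.mul_le_mul_right _ h3
    _ = 2 ^ ((t + 5) ^ 2 - 2) := by
        rw [← pow_add]
        congr 1
        have : (t + 5) ^ 2 = t ^ 2 + 10 * t + 25 := by ring
        omega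

/-- **`Sp_2m(2)`, `Ω_2m^±(2)`** -/
theorem galSum_fam_four {m : ℕ} (hm : 3 ≤ m) : galSum (fam 4 m) ≤ 2 ^ (2 * m ^ 2 - m - 1) := by
  rcases Nat.lt_or_ge m 8 with h8 | h8
  · interval_cases m
    · exact galSum_of_list [(3, 4), (5, 1), (7, 1)] (by norm_num) (by decide) (by decide) (by decide)
    · exact galSum_of_list [(3, 5), (5, 2), (7, 1), (17, 1)] (by norm_num) (by decide) (by decide +kernel)
        (by decide +kernel)
    · exact galSum_of_list [(3, 6), (5, 2), (7, 1), (11, 1), (17, 1), (31, 1)] (by norm_num) (by decide)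
        (by decide +kernel) (by decide +kernel)
    · exact galSum_of_list [(3, 8), (5, 3), (7, 2), (11, 1), (13, 1), (17, 1), (31, 1)] (by norm_num) (by decide)
        (by decide +kernel) (by decide +kernel)
    · exact galSum_of_list [(3, 9), (5, 3), (7, 2), (11, 1), (13, 1), (17, 1), (31, 1), (43, 1), (127, 1)]
        (by norm_num) (by decide) (by decide +kernel) (by decide +kernel)
  obtain ⟨t, rfl⟩ : ∃ t, m = t + 8 := ⟨m - 8, by omega⟩
  have hk : fam 4 (t + 8) ≤ 2 ^ ((t + 8) * (t + 8 + 1)) := by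
    refine (fam_le 4 (t + 8)).trans ?_
    have e : (4 : ℕ) = 2 ^ 2 := by norm_num
    rw [e, ← pow_mul]
    apply Nat.pow_le_pow_right (by norm_num)
    exact Nat.mul_div_le _ _
  have h1 := galSum_le_of_forall (fam_pos (by norm_num) (t + 8)).ne' hk (fun s hs => gal_fam_four hs)
  refine h1.trans ?_
  have h2 : ∀ t : ℕ, (t + 8) * (t + 8 + 1) * (2 * (t + 8)) ≤ 2 ^ (11 + 5 * t) := by
    intro t
    induction t with
    | zero => norm_num
    | succ t ih =>
      have e : 2 ^ (11 + 5 * (t + 1)) = 32 * 2 ^ (11 + 5 * t) := by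
        rw [show 11 + 5 * (t + 1) = 5 + (11 + 5 * t) by ring, pow_add]; norm_num
      have key : 32 * ((t + 8) * (t + 8 + 1) * (2 * (t + 8))) =
          (t + 1 + 8) * (t + 1 + 8 + 1) * (2 * (t + 1 + 8)) + (62 * t ^ 3 + 1544 * t ^ 2 + 12790 * t + 35244) := by ring
      calc (t + 1 + 8) * (t + 1 + 8 + 1) * (2 * (t + 1 + 8)) ≤ 32 * ((t + 8) * (t + 8 + 1) * (2 * (t + 8))) := by
            rw [key]; exact Nat.le_add_right _ _
        _ ≤ 32 * 2 ^ (11 + 5 * t) := Nat.mul_le_mul_left _ ih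
        _ = 2 ^ (11 + 5 * (t + 1)) := e.symm
  set u := (t + 8) * (t + 8 + 1) / 2 with hu
  have hu2 : u * 2 = (t + 8) * (t + 8 + 1) := Nat.div_mul_cancel (Nat.even_mul_succ_self (t + 8)).two_dvd
  calc (t + 8) * (t + 8 + 1) * (2 * (t + 8) * 2 ^ (3 * u)) =
        (t + 8) * (t + 8 + 1) * (2 * (t + 8)) * 2 ^ (3 * u) := by ring
    _ ≤ 2 ^ (11 + 5 * t) * 2 ^ (3 * u) := Nat.mul_le_mul_right _ (h2 t)
    _ = 2 ^ (11 + 5 * t + 3 * u) := by rw [← pow_add]
    _ ≤ 2 ^ (2 * (t + 8) ^ 2 - (t + 8) - 1) := by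
        apply Nat.pow_le_pow_right (by norm_num)
        have e1 : (t + 8) ^ 2 = t ^ 2 + 16 * t + 64 := by ring
        have e2 : (t + 8) * (t + 8 + 1) = t ^ 2 + 17 * t + 72 := by ring
        rw [e2] at hu2
        rw [e1]
        have : 0 ≤ t ^ 2 := Nat.zero_le _
        omega

end Cfsg.Agent.H12.EP.BT

private theorem dce_38cf4edcc1d8 : _root_.True := by
  try have : _root_.True := by simp only [_root_.Cfsg.Agent.H12.EP.BT.fam.eq_def]
  try have : _root_.True := by simp only [_root_.Cfsg.Agent.H12.EP.BT.fam.eq_2]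
  try have : _root_.True := by simp only [_root_.Cfsg.Agent.H12.EP.BT.fam.eq_1]
  exact _root_.True.intro
end

-- part: H12/EP/InstTwo
section
set_option linter.all false
open scoped Cfsg.Agent.FastGrp

/-!
# S3499-VII-BT-COUNT (helper12), part 6: symplectic and orthogonal socles over the field with two elements

`ub_psp_two`, `ub_plus_two`, `ub_minus_two` : `10000 |Q| ≤ 14 |A| ^ (4 + j)` for `1 ≤ j`, `2 m ^ 2 + m ≤ 5 * 60 ^ j`
(`j = 1` for `m ≤ 12`), socle `PSp_2m(2)` (`m ≥ 3`), `POmega_2m^±(2)` (`m ≥ 4`).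
-/

set_option autoImplicit false
set_option linter.unusedSectionVars false

namespace Cfsg.Agent.H12.EP.BT

open Subgroup Cfsg.Agent.H284 Cfsg.Agent.H59.EP Cfsg.Agent.H419.EP Cfsg.Agent.KFacts.RgdFilt Cfsg.Agent.H528.EP

universe u

variable {Q : Type u} [Group Q] [Finite Q] {A : Subgroup Q} {Γ : Subgroup (MulAut Q)}

theorem hasSoc_dvd {L : Type*} [Group L] [Finite L] (hsoc : HasSoc A L) : Nat.card A ∣ Nat.card (MulAut L) := by
  obtain ⟨f, hf⟩ := hsoc.exists_hom
  rw [Nat.card_congr (MonoidHom.ofInjective hf).toEquiv]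
  exact Subgroup.card_subgroup_dvd_card _

/-- **the general form over the field with two elements** -/
theorem ub_two (hs : IsSimpleGroup Q) (h : EPT A Γ) (hg : TwoGen.{u}) {L : Type*} [Group L] [Finite L]
    (hsoc : HasSoc A L) (hL : IsSimpleGroup L) (hLn : ¬ ∀ a b : L, a * b = b * a) (hF : HasFilt 2 L)
    {c N k T : ℕ} (hAut : Nat.card (MulAut L) = c * Nat.card L) (hc : ¬ 4 ∣ c) (hk : k ≠ 0)
    (hd : c * Nat.card L ∣ 2 ^ N * k) (hG : galSum k ≤ Nat.card L) (hT : c * Nat.card L ≤ 2 ^ T) {j : ℕ}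
    (hj0 : 1 ≤ j) (hj : T ≤ 5 * 60 ^ j) : 10000 * Nat.card Q ≤ Nat.card A ^ (4 + j) * 14 := by
  have : Fact (Nat.Prime 2) := ⟨Nat.prime_two⟩
  have h1 : Nat.card A ∣ c * Nat.card L := hAut ▸ hasSoc_dvd hsoc
  have hc0 : 0 < c := Nat.pos_of_ne_zero (by rintro rfl; exact hc (dvd_zero 4))
  have h2 : Nat.card A ≤ c * Nat.card L := Nat.le_of_dvd (Nat.mul_pos hc0 Nat.card_pos) h1
  refine card_own_one hs h hg hsoc hL hLn hF ?_ hj0 ?_ (clsLe_gal 2) ?_
  · intro h3
    apply hc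
    exact Nat.dvd_of_mul_dvd_mul_right (Nat.card_pos (α := L)) (h3.trans h1)
  · refine (h2.trans hT).trans_lt ?_
    calc 2 ^ T ≤ 2 ^ (5 * 60 ^ j) := Nat.pow_le_pow_right (by norm_num) hj
      _ = 32 ^ 60 ^ j := by rw [pow_mul]; norm_num
      _ < 60 ^ 60 ^ j := Nat.pow_lt_pow_left (by norm_num) (by positivity)
  · exact ((galSumNe_le hk (h1.trans hd)).trans hG).trans (Nat.le_of_dvd Nat.card_pos hsoc.card_dvd)

/-! ### the numbers -/

theorem two_pow_le_fam_four (m : ℕ) : 2 * 2 ^ (m * (m + 1)) ≤ 3 * fam 4 m := by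
  have key : 2 ^ (m * (m + 1)) * (2 * 4 ^ m + 1) ≤ 3 * 4 ^ m * fam 4 m := by
    induction m with
    | zero => simp [fam]
    | succ m ih =>
      have e1 : 2 ^ ((m + 1) * (m + 1 + 1)) = 2 ^ (m * (m + 1)) * 4 ^ (m + 1) := by
        have : (4 : ℕ) = 2 ^ 2 := by norm_num
        rw [this, ← pow_mul, ← pow_add]
        congr 1
        ring
      have e2 : fam 4 (m + 1) = fam 4 m * (4 ^ (m + 1) - 1) := rfl
      rw [e1, e2]
      have h1 : 1 ≤ 4 ^ m := Nat.one_le_pow _ _ (by norm_num)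
      have e3 : 4 ^ (m + 1) = 4 * 4 ^ m := by rw [pow_succ']
      obtain ⟨y, hy⟩ : ∃ y, 4 ^ m = y + 1 := ⟨4 ^ m - 1, by omega⟩
      have e4 : 4 ^ (m + 1) - 1 = 4 * y + 3 := by omega
      rw [e4, e3]
      rw [hy] at ih ⊢
      calc 2 ^ (m * (m + 1)) * (4 * (y + 1)) * (2 * (4 * (y + 1)) + 1)
          ≤ (2 ^ (m * (m + 1)) * (2 * (y + 1) + 1)) * (4 * (4 * y + 3)) := by
            have : (4 * (y + 1)) * (2 * (4 * (y + 1)) + 1) ≤ (2 * (y + 1) + 1) * (4 * (4 * y + 3)) := by nlinarith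
            calc 2 ^ (m * (m + 1)) * (4 * (y + 1)) * (2 * (4 * (y + 1)) + 1) =
                2 ^ (m * (m + 1)) * ((4 * (y + 1)) * (2 * (4 * (y + 1)) + 1)) := by ring
              _ ≤ 2 ^ (m * (m + 1)) * ((2 * (y + 1) + 1) * (4 * (4 * y + 3))) := Nat.mul_le_mul_left _ this
              _ = _ := by ring
        _ ≤ (3 * (y + 1) * fam 4 m) * (4 * (4 * y + 3)) := Nat.mul_le_mul_right _ ih
        _ = 3 * (4 * (y + 1)) * (fam 4 m * (4 * y + 3)) := by ring
  have h4 : 0 < 4 ^ m := by positivity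
  have h5 : (2 * 2 ^ (m * (m + 1))) * 4 ^ m ≤ (3 * fam 4 m) * 4 ^ m := by
    calc (2 * 2 ^ (m * (m + 1))) * 4 ^ m = 2 ^ (m * (m + 1)) * (2 * 4 ^ m) := by ring
      _ ≤ 2 ^ (m * (m + 1)) * (2 * 4 ^ m + 1) := Nat.mul_le_mul_left _ (by omega)
      _ ≤ 3 * 4 ^ m * fam 4 m := key
      _ = _ := by ring
  exact Nat.le_of_mul_le_mul_right h5 h4

theorem fam_four_le (m : ℕ) : fam 4 m ≤ 2 ^ (m * (m + 1)) := by
  refine (fam_le 4 m).trans ?_
  have e : (4 : ℕ) = 2 ^ 2 := by norm_num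
  rw [e, ← pow_mul]
  exact Nat.pow_le_pow_right (by norm_num) (Nat.mul_div_le _ _)

theorem prB_two (m : ℕ) : Cfsg.Agent.OrdDiv.prB 2 m = fam 4 m := by
  induction m with
  | zero => rfl
  | succ m ih =>
    have e : fam 4 (m + 1) = fam 4 m * (4 ^ (m + 1) - 1) := rfl
    rw [e, ← ih]
    unfold Cfsg.Agent.OrdDiv.prB
    rw [List.range_succ, List.map_append, List.prod_append]
    simp only [List.map_cons, List.map_nil, List.prod_cons, List.prod_nil, mul_one]
    rw [pow_mul]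
    norm_num

theorem prod_two (m : ℕ) : ∏ i ∈ Finset.range m, (2 ^ (2 * (i + 1)) - 1) = fam 4 m := by
  induction m with
  | zero => rfl
  | succ m ih =>
    have e : fam 4 (m + 1) = fam 4 m * (4 ^ (m + 1) - 1) := rfl
    rw [Finset.prod_range_succ, ih, e, pow_mul]
    norm_num

/-- the orders of the orthogonal groups over the field with two elements -/
theorem omega_num {m N e : ℕ} (hm : 4 ≤ m) (he : e + 1 = 2 ^ m ∨ e = 2 ^ m + 1)
    (hN : N = 2 ^ (m * (m - 1)) * e * fam 4 (m - 1)) :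
    2 ^ (2 * m ^ 2 - m - 1) ≤ N ∧ N ∣ 2 ^ (m * (m - 1)) * fam 4 m ∧ 6 * N ≤ 2 ^ (2 * m ^ 2 + m) := by
  obtain ⟨t, rfl⟩ : ∃ t, m = t + 4 := ⟨m - 4, by omega⟩
  have e1 : t + 4 - 1 = t + 3 := rfl
  rw [e1] at hN ⊢
  have h16 : 16 ≤ 2 ^ (t + 4) := by
    calc 16 = 2 ^ 4 := by norm_num
      _ ≤ _ := Nat.pow_le_pow_right (by norm_num) (by omega)
  have hf := two_pow_le_fam_four (t + 3)
  have hf' := fam_four_le (t + 3)
  have eX : (t + 3) * (t + 3 + 1) = (t + 4) * (t + 3) := by ring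
  rw [eX] at hf hf'
  refine ⟨?_, ?_, ?_⟩
  · -- lower bound
    have h15 : 15 * 2 ^ (t + 4) ≤ 16 * e := by omega
    have h1 : 48 * N ≥ 30 * (2 ^ ((t + 4) * (t + 3)) * 2 ^ (t + 4) * 2 ^ ((t + 4) * (t + 3))) := by
      rw [hN]
      calc 48 * (2 ^ ((t + 4) * (t + 3)) * e * fam 4 (t + 3)) =
            2 ^ ((t + 4) * (t + 3)) * (16 * e) * (3 * fam 4 (t + 3)) := by ring
        _ ≥ 2 ^ ((t + 4) * (t + 3)) * (15 * 2 ^ (t + 4)) * (2 * 2 ^ ((t + 4) * (t + 3))) :=
            Nat.mul_le_mul (Nat.mul_le_mul_left _ h15) hf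
        _ = _ := by ring
    have e2 : 2 ^ ((t + 4) * (t + 3)) * 2 ^ (t + 4) * 2 ^ ((t + 4) * (t + 3)) =
        2 * 2 ^ (2 * (t + 4) ^ 2 - (t + 4) - 1) := by
      rw [← pow_add, ← pow_add, ← pow_succ']
      congr 1
      have e3 : (t + 4) ^ 2 = t ^ 2 + 8 * t + 16 := by ring
      have e4 : (t + 4) * (t + 3) = t ^ 2 + 7 * t + 12 := by ring
      rw [e3, e4]
      omega
    rw [e2] at h1
    omega
  · rw [hN, mul_assoc]
    apply Nat.mul_dvd_mul_left
    have e2 : fam 4 (t + 4) = fam 4 (t + 3) * (4 ^ (t + 4) - 1) := rfl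
    rw [e2, mul_comm]
    apply Nat.mul_dvd_mul_left
    have e3 : 4 ^ (t + 4) = 2 ^ (t + 4) * 2 ^ (t + 4) := by rw [← mul_pow]; norm_num
    rcases he with h1 | h1
    · refine ⟨2 ^ (t + 4) + 1, ?_⟩
      rw [e3, ← h1]
      have : (e + 1) * (e + 1) = e * (e + 1 + 1) + 1 := by ring
      omega
    · refine ⟨2 ^ (t + 4) - 1, ?_⟩
      rw [e3, h1]
      obtain ⟨y, hy⟩ : ∃ y, 2 ^ (t + 4) = y + 1 := ⟨2 ^ (t + 4) - 1, by omega⟩
      rw [hy, Nat.add_sub_cancel]
      have : (y + 1) * (y + 1) = (y + 1 + 1) * y + 1 := by ring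
      omega
  · have he2 : e ≤ 2 * 2 ^ (t + 4) := by omega
    rw [hN]
    calc 6 * (2 ^ ((t + 4) * (t + 3)) * e * fam 4 (t + 3)) ≤
          2 ^ 3 * (2 ^ ((t + 4) * (t + 3)) * (2 * 2 ^ (t + 4)) * 2 ^ ((t + 4) * (t + 3))) := by
          apply Nat.mul_le_mul (by norm_num)
          exact Nat.mul_le_mul (Nat.mul_le_mul_left _ he2) hf'
      _ = 2 ^ (4 + (t + 4) * (t + 3) + (t + 4) + (t + 4) * (t + 3)) := by
          rw [show 4 + (t + 4) * (t + 3) + (t + 4) + (t + 4) * (t + 3) =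
            3 + ((t + 4) * (t + 3) + (1 + (t + 4)) + (t + 4) * (t + 3)) by ring, pow_add 2 3,
            pow_add 2 (_ + _) ((t + 4) * (t + 3)), pow_add 2 ((t + 4) * (t + 3)) (1 + (t + 4)), pow_add 2 1, pow_one]
      _ ≤ _ := by
          apply Nat.pow_le_pow_right (by norm_num)
          nlinarith

theorem charP_two {K : Type} [Field K] [Fintype K] (hK : Fintype.card K = 2) : CharP K 2 := by
  obtain ⟨n, hp, hn⟩ := FiniteField.card K (ringChar K)
  have h1 : ringChar K = 2 := by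
    have h2 : (ringChar K) ∣ 2 := by
      rw [← hK, hn]
      exact dvd_pow_self _ n.ne_zero
    exact (Nat.prime_dvd_prime_iff_eq hp Nat.prime_two).1 h2
  rw [← h1]
  exact ringChar.charP K

/-- **socle `PSp_2m(2)`** -/
theorem ub_psp_two (hs : IsSimpleGroup Q) (h : EPT A Γ) (hg : TwoGen.{u}) {K : Type} [Field K] [Fintype K]
    (hK : Fintype.card K = 2) {m : ℕ} (hm : 3 ≤ m) (hsoc : HasSoc A (Cfsg.PSp m K))
    (hL : IsSimpleGroup (Cfsg.PSp m K)) (hLn : ¬ ∀ a b : Cfsg.PSp m K, a * b = b * a) {j : ℕ} (hj0 : 1 ≤ j)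
    (hj : 2 * m ^ 2 + m ≤ 5 * 60 ^ j) : 10000 * Nat.card Q ≤ Nat.card A ^ (4 + j) * 14 := by
  have : Fact (Nat.Prime 2) := ⟨Nat.prime_two⟩
  have := charP_two hK
  have hfin : Finite (Cfsg.PSp m K) := Quotient.finite _
  have hcard : Nat.card (Cfsg.PSp m K) = 2 ^ (m ^ 2) * fam 4 m := by
    have h1 := Cfsg.Agent.H321.Orders.psp_eq (F := K) (m := m) (by omega)
    rw [hK, prB_two] at h1
    simpa using h1
  have hAut := Cfsg.Agent.S0814.result (F := K) 2 1 le_rfl (by rw [hK]; norm_num) m (by omega) (by omega)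
  rw [if_neg (by omega)] at hAut
  norm_num at hAut
  have hF : HasFilt 2 (Cfsg.PSp m K) := Cfsg.Agent.KFacts.RgdFiltClass.hasFilt_of_PSp
    ⟨K, inferInstance, inferInstance, inferInstance, m, by omega, by omega, ⟨MulEquiv.refl _⟩⟩
  refine ub_two hs h hg hsoc hL hLn hF (c := 1) (N := m ^ 2) (k := fam 4 m) (T := 2 * m ^ 2 + m)
    (by rw [one_mul]; exact hAut) (by norm_num) (fam_pos (by norm_num) m).ne' (by rw [one_mul, hcard]) ?_ ?_ hj0 hj
  · refine (galSum_fam_four hm).trans ?_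
    rw [hcard]
    have h1 := two_pow_le_fam_four m
    have h2 : 2 ^ (m * (m + 1)) ≤ 2 * fam 4 m := by omega
    have h3 : 2 ^ (2 * m ^ 2 - m - 1) ≤ 2 ^ (m ^ 2 + m * (m + 1) - 1) := by
      apply Nat.pow_le_pow_right (by norm_num)
      have : m ^ 2 + m * (m + 1) = 2 * m ^ 2 + m := by ring
      omega
    refine h3.trans ?_
    have h4 : 2 * 2 ^ (m ^ 2 + m * (m + 1) - 1) = 2 ^ (m ^ 2) * 2 ^ (m * (m + 1)) := by
      rw [← pow_succ', ← pow_add]
      congr 1
      have : 0 < m ^ 2 := by positivity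
      omega
    have h5 : 2 ^ (m ^ 2) * 2 ^ (m * (m + 1)) ≤ 2 ^ (m ^ 2) * (2 * fam 4 m) := Nat.mul_le_mul_left _ h2
    have h6 : 2 ^ (m ^ 2) * (2 * fam 4 m) = 2 * (2 ^ (m ^ 2) * fam 4 m) := by ring
    omega
  · rw [one_mul, hcard]
    calc 2 ^ (m ^ 2) * fam 4 m ≤ 2 ^ (m ^ 2) * 2 ^ (m * (m + 1)) := Nat.mul_le_mul_left _ (fam_four_le m)
      _ = 2 ^ (2 * m ^ 2 + m) := by rw [← pow_add]; congr 1; ring

theorem galSum_three_fam : galSum (3 * fam 4 4) ≤ 2 ^ 27 :=
  galSum_of_list [(3, 6), (5, 2), (7, 1), (17, 1)] (by norm_num) (by decide) (by decide +kernel) (by decide +kernel)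

/-- **socle `POmega_2m^+(2)`** -/
theorem ub_plus_two (hs : IsSimpleGroup Q) (h : EPT A Γ) (hg : TwoGen.{u}) {K : Type} [Field K] [Fintype K]
    (hK : Fintype.card K = 2) {m : ℕ} (hm : 4 ≤ m) (hsoc : HasSoc A (Cfsg.POmega K (Cfsg.quadFormPlus m K)))
    (hL : IsSimpleGroup (Cfsg.POmega K (Cfsg.quadFormPlus m K)))
    (hLn : ¬ ∀ a b : Cfsg.POmega K (Cfsg.quadFormPlus m K), a * b = b * a) {j : ℕ} (hj0 : 1 ≤ j)
    (hj : 2 * m ^ 2 + m ≤ 5 * 60 ^ j) : 10000 * Nat.card Q ≤ Nat.card A ^ (4 + j) * 14 := by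
  have : Fact (Nat.Prime 2) := ⟨Nat.prime_two⟩
  have := charP_two hK
  have hfin : Finite (Cfsg.POmega K (Cfsg.quadFormPlus m K)) := Quotient.finite _
  have h2m : 16 ≤ 2 ^ m := by
    calc 16 = 2 ^ 4 := by norm_num
      _ ≤ _ := Nat.pow_le_pow_right (by norm_num) hm
  have hodd : Nat.gcd 4 (2 ^ m - 1) = 1 := by
    have h1 : Nat.Coprime 2 (2 ^ m - 1) := by
      rw [Nat.coprime_two_left, Nat.odd_iff]
      have : 2 ∣ 2 ^ m := dvd_pow_self 2 (by omega)
      omega
    have h2 : Nat.Coprime (2 ^ 2) (2 ^ m - 1) := h1.pow_left 2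
    exact h2
  have hcard : Nat.card (Cfsg.POmega K (Cfsg.quadFormPlus m K)) = 2 ^ (m * (m - 1)) * (2 ^ m - 1) * fam 4 (m - 1) := by
    have h1 := Cfsg.Agent.S0293.result (F := K) hK m hm
    rw [hodd, one_mul, prod_two] at h1
    exact h1
  obtain ⟨n1, n2, n3⟩ := omega_num hm (Or.inl (by omega)) hcard
  have hAut := Cfsg.Agent.S0817.result (F := K) 2 1 le_rfl (by rw [hK]; norm_num) m hm
  rw [if_pos rfl] at hAut
  have hF : HasFilt 2 (Cfsg.POmega K (Cfsg.quadFormPlus m K)) := Cfsg.Agent.KFacts.RgdFiltClass.hasFilt_of_POmegaPlus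
    ⟨K, inferInstance, inferInstance, inferInstance, m, hm, ⟨MulEquiv.refl _⟩⟩
  by_cases h4 : m = 4
  · subst h4
    rw [if_pos rfl] at hAut
    refine ub_two hs h hg hsoc hL hLn hF (c := 6) (N := 4 * (4 - 1) + 1) (k := 3 * fam 4 4) (T := 2 * 4 ^ 2 + 4)
      (by rw [hAut]) (by norm_num) (by decide) ?_ ?_ n3 hj0 hj
    · have e : 2 ^ (4 * (4 - 1) + 1) * (3 * fam 4 4) = 6 * (2 ^ (4 * (4 - 1)) * fam 4 4) := by ring
      rw [e]
      exact Nat.mul_dvd_mul_left _ n2
    · exact galSum_three_fam.trans ((by norm_num : 2 ^ 27 ≤ 2 ^ (2 * 4 ^ 2 - 4 - 1)).trans n1)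
  · rw [if_neg h4] at hAut
    refine ub_two hs h hg hsoc hL hLn hF (c := 2) (N := m * (m - 1) + 1) (k := fam 4 m) (T := 2 * m ^ 2 + m)
      (by rw [hAut]) (by norm_num) (fam_pos (by norm_num) m).ne' ?_ ((galSum_fam_four (by omega)).trans n1)
      (le_trans (Nat.mul_le_mul_right _ (by norm_num)) n3) hj0 hj
    have e : 2 ^ (m * (m - 1) + 1) * fam 4 m = 2 * (2 ^ (m * (m - 1)) * fam 4 m) := by ring
    rw [e]
    exact Nat.mul_dvd_mul_left _ n2

/-- **socle `POmega_2m^-(2)`** -/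
theorem ub_minus_two (hs : IsSimpleGroup Q) (h : EPT A Γ) (hg : TwoGen.{u}) {K : Type} [Field K] [Fintype K]
    (hK : Fintype.card K = 2) {m : ℕ} (hm : 4 ≤ m) {a b : K}
    (hab : ∀ z₁ z₂ : K, z₁ ^ 2 + a * z₁ * z₂ + b * z₂ ^ 2 = 0 → z₁ = 0 ∧ z₂ = 0)
    (hsoc : HasSoc A (Cfsg.POmega K (Cfsg.quadFormMinus (m - 1) K a b)))
    (hL : IsSimpleGroup (Cfsg.POmega K (Cfsg.quadFormMinus (m - 1) K a b)))
    (hLn : ¬ ∀ x y : Cfsg.POmega K (Cfsg.quadFormMinus (m - 1) K a b), x * y = y * x) {j : ℕ} (hj0 : 1 ≤ j)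
    (hj : 2 * m ^ 2 + m ≤ 5 * 60 ^ j) : 10000 * Nat.card Q ≤ Nat.card A ^ (4 + j) * 14 := by
  have : Fact (Nat.Prime 2) := ⟨Nat.prime_two⟩
  have := charP_two hK
  have hfin : Finite (Cfsg.POmega K (Cfsg.quadFormMinus (m - 1) K a b)) := Quotient.finite _
  have hodd : Nat.gcd 4 (2 ^ m + 1) = 1 := by
    have h1 : Nat.Coprime 2 (2 ^ m + 1) := by
      rw [Nat.coprime_two_left, Nat.odd_iff]
      have : 2 ∣ 2 ^ m := dvd_pow_self 2 (by omega)
      omega
    have h2 : Nat.Coprime (2 ^ 2) (2 ^ m + 1) := h1.pow_left 2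
    exact h2
  have hcard : Nat.card (Cfsg.POmega K (Cfsg.quadFormMinus (m - 1) K a b)) =
      2 ^ (m * (m - 1)) * (2 ^ m + 1) * fam 4 (m - 1) := by
    have h1 := Cfsg.Agent.S0294.result (F := K) hK m hm a b hab
    rw [hodd, one_mul, prod_two] at h1
    exact h1
  obtain ⟨n1, n2, n3⟩ := omega_num hm (Or.inr rfl) hcard
  have hAut := Cfsg.Agent.S0818.result (F := K) 2 1 le_rfl (by rw [hK]; norm_num) m hm a b hab
  rw [if_pos rfl] at hAut
  have hF : HasFilt 2 (Cfsg.POmega K (Cfsg.quadFormMinus (m - 1) K a b)) :=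
    Cfsg.Agent.KFacts.RgdFiltClass.hasFilt_of_POmegaMinus
      ⟨K, inferInstance, inferInstance, inferInstance, m, a, b, hm, hab, ⟨MulEquiv.refl _⟩⟩
  refine ub_two hs h hg hsoc hL hLn hF (c := 2) (N := m * (m - 1) + 1) (k := fam 4 m) (T := 2 * m ^ 2 + m)
    (by rw [hAut]) (by norm_num) (fam_pos (by norm_num) m).ne' ?_ ((galSum_fam_four (by omega)).trans n1)
    (le_trans (Nat.mul_le_mul_right _ (by norm_num)) n3) hj0 hj
  have e : 2 ^ (m * (m - 1) + 1) * fam 4 m = 2 * (2 ^ (m * (m - 1)) * fam 4 m) := by ring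
  rw [e]
  exact Nat.mul_dvd_mul_left _ n2

end Cfsg.Agent.H12.EP.BT
end

-- part: H274/EPO/NoOmega
section
set_option linter.all false
open scoped Cfsg.Agent.FastGrp

/-!
# S3499, own characteristic, orthogonal socles: the natural module (helper274)

* **`no_omega`** : `Big A Γ S P` and `P = omegaGL Q₁`, `Q₁` a non-degenerate quadratic form, is impossible.
* `no_omega'` : the same with `omegaGL Q₁ ≤ P` and `P` fixing `Q₁`.
-/

set_option autoImplicit false
set_option linter.unusedSectionVars false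

namespace Cfsg.Agent.H274.EPO

open Cfsg Cfsg.Geo Matrix Cfsg.Agent.H419.EP Cfsg.Agent.H284 Cfsg.Agent.H914

section general

variable {ι : Type} [Fintype ι] [DecidableEq ι] {F : Type*} [Field F]

/-- elements of `omegaGL Q` are isometries -/
theorem fix_of_mem_omegaGL {Q : (ι → F) → F} {g : GL ι F} (hg : g ∈ omegaGL Q) (v : ι → F) :
    Q ((g : Matrix ι ι F) *ᵥ v) = Q v := by
  obtain ⟨x, -, rfl⟩ := hg
  exact (x.2 : _) v v

theorem fixes_omegaGL {Q : (ι → F) → F} : FixesQuadForm (matrixSet (omegaGL Q)) Q := by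
  rintro s ⟨g, hg, rfl⟩ v
  exact fix_of_mem_omegaGL hg v

theorem fixes_of_le {Q : (ι → F) → F} {P S : Subgroup (GL ι F)} (h : P ≤ S) (hS : FixesQuadForm (matrixSet S) Q) :
    FixesQuadForm (matrixSet P) Q := by
  rintro s ⟨g, hg, rfl⟩ v
  exact hS _ ⟨g, h hg, rfl⟩ v

/-- **Uniqueness of the fixed quadratic form.** -/
theorem exists_smul_of_fixes [Finite F] [Nonempty ι] {P : Subgroup (GL ι F)}
    (hirr : ActsAbsolutelyIrreducibly (matrixSet P)) {Q Q₁ : (ι → F) → F} (hQ : IsNondegenerateQuadraticForm Q)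
    (hQ₁ : IsNondegenerateQuadraticForm Q₁) (h : FixesQuadForm (matrixSet P) Q)
    (h₁ : FixesQuadForm (matrixSet P) Q₁) : ∃ c : F, c ≠ 0 ∧ ∀ v, Q₁ v = c * Q v := by
  obtain ⟨c, hc⟩ := sesq_unique hirr (IsSesq.of_bilinear hQ.polar_bilinear) hQ.nondegenerate (fixesForm_polar h)
    (IsSesq.of_bilinear hQ₁.polar_bilinear) (fixesForm_polar h₁)
  have hc0 : c ≠ 0 := by
    rintro rfl
    obtain ⟨i⟩ := ‹Nonempty ι›
    have hne : (Pi.single i 1 : ι → F) ≠ 0 := by
      intro h0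
      have := congrFun h0 i
      simp at this
    obtain ⟨⟨x, hx⟩, -⟩ := hQ₁.nondegenerate _ hne
    exact hx (by rw [hc, zero_mul])
  refine ⟨c, hc0, fun v => ?_⟩
  refine quad_unique hirr.1 (Q := Q₁) (Q' := fun v => c * Q v) (fun a v => hQ₁.smul a v)
    (fun a v => by simp only [hQ.smul]; ring) ?_ ?_ h₁ ?_ v
  · intro u v
    rw [hc]
    simp only [QuadraticMap.polar]; ring
  · intro v hv
    exact (hQ₁.nondegenerate v hv).1
  · intro s hs v
    simp only [h s hs]

theorem isometryGroup_smul {Q Q₁ : (ι → F) → F} {c : F} (hc : c ≠ 0) (h : ∀ v, Q₁ v = c * Q v) :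
    isometryGroup F Q₁ = isometryGroup F Q := by
  ext g
  have key : ∀ {R : (ι → F) → F}, g ∈ isometryGroup F R ↔ ∀ v, R ((g : Matrix ι ι F) *ᵥ v) = R v :=
    fun {R} => ⟨fun hg v => hg v v, fun hg u _ => hg u⟩
  rw [key, key]
  constructor
  · intro hg v
    have := hg v
    rw [h, h] at this
    exact mul_left_cancel₀ hc this
  · intro hg v
    rw [h, h, hg]

theorem omegaGL_comm (Q : (ι → F) → F) : omegaGL Q = ⁅isometryGroup F Q, isometryGroup F Q⁆ := by
  unfold omegaGL Omega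
  exact Subgroup.map_subtype_commutator _

theorem omegaGL_smul {Q Q₁ : (ι → F) → F} {c : F} (hc : c ≠ 0) (h : ∀ v, Q₁ v = c * Q v) :
    omegaGL Q₁ = omegaGL Q := by
  rw [omegaGL_comm, omegaGL_comm, isometryGroup_smul hc h]

end general

variable {Q : Type} [Group Q] [Finite Q] {A : Subgroup Q} {Γ : Subgroup (MulAut Q)} {ι : Type} [Fintype ι]
    [DecidableEq ι] {F : Type} [Field F] [Fintype F] {S P : Subgroup (GL ι F)}

/-- the core is not all of `S` -/
theorem ne_S (b : Big A Γ S P) : P ≠ S := by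
  intro h
  apply b.ept.max.1
  rw [eq_top_iff]
  intro t _
  obtain ⟨s, rfl⟩ := b.m.surj t
  rw [← b.m.mem_hat_iff]
  apply b.core.le
  rw [h]
  exact s.2

/-- **The natural module of an orthogonal group.** -/
theorem no_omega' (b : Big A Γ S P) {Q₁ : (ι → F) → F} (h : IsNondegenerateQuadraticForm Q₁)
    (hf : FixesQuadForm (matrixSet P) Q₁) (hP : omegaGL Q₁ ≤ P) : False := by
  rcases b.kind with ⟨-, -, nq, -, -⟩ | ⟨f, -, -, -, -, nq, -⟩ | ⟨q, hq, σ, f, -, -, -, -, nq, -⟩ |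
    ⟨Qf, hQ, hS, -, -⟩
  · exact nq ⟨Q₁, h, hf⟩
  · exact nq ⟨Q₁, h, hf⟩
  · exact nq ⟨Q₁, h, hf⟩
  · have : Nonempty ι := Fintype.card_pos_iff.1 (by have := b.thirteen; omega)
    obtain ⟨c, hc, hc'⟩ := exists_smul_of_fixes b.core.absIrred h hQ hf
      (fixes_of_le b.le_S (by rw [hS]; exact fixes_omegaGL))
    apply ne_S b
    apply le_antisymm b.le_S
    rw [hS, omegaGL_smul hc hc']
    exact hP

/-- **The natural module of an orthogonal group.** -/
theorem no_omega (b : Big A Γ S P) {Q₁ : (ι → F) → F} (h : IsNondegenerateQuadraticForm Q₁) (hP : P = omegaGL Q₁) :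
    False := no_omega' b h (by rw [hP]; exact fixes_omegaGL) hP.ge

end Cfsg.Agent.H274.EPO
end

-- part: H947/EPO/PPlus
section
prune_inst 0x20040aa210000000001270001c129a000090004b0800490000400c80ec010d42662030b01300118400a400390040000000090000000000000000411800800002000001000000200000000880000000000000000000000000000000000000000000000
set_option linter.all false
open scoped Cfsg.Agent.FastGrp

/-!
# S3499, own characteristic, socle `PΩ⁺_{2l}(2)` (helper947, task 6139)

* `core_pplus` : `Core P`, `Soc P ≃ PΩ⁺_{2l}(2)`, `char F = 2`, dimension at least 13: `|F| = 2` and `P = Ω(Q₁)` or the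
  dimension is large, or `l = 5` and there is no invariant bilinear form.
* `own_pplus_of` : `|Q| ≤ |A| ^ e`, `e ≤ 5` or (`7 ≤ l` and `e ≤ l`): the socle of `A` is not `PΩ⁺_{2l}(2)`;
* **`own_pplus_two`** : the same without the bound for the order (helper12's `ub_plus_two`).
-/

set_option autoImplicit false
set_option linter.unusedSectionVars false

namespace Cfsg.Agent.H947.EPO

open CoxeterSystem Cfsg.Agent.ChevalleyStructure.CoxeterGeom Cfsg.Agent.Tits.Roots Cfsg.Agent.Tits.Core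
  Cfsg.Agent.Nodes.Reps Cfsg.Agent.Nodes.BNOf Cfsg.Agent.Nodes.Bruhat Cfsg.Agent.Nodes.RGDLib
open QuadraticMap
open Cfsg.Agent.LieClassical Cfsg.Agent.LieClassical.OrthCore Cfsg.Agent.LieClassical.OrthTrans
open Cfsg.Agent.LieClassical.OrthSimple Cfsg.Agent.LieClassical.OrthFinite Cfsg.Agent.LieClassical.OrthForms
open Cfsg.Agent.TitsThree Cfsg.Agent.TitsThree.KSideO Cfsg.Agent.TitsThree.StdData
open Cfsg.Agent.Nodes Cfsg.Agent.Nodes.WittAll Cfsg.Agent.Nodes.WittInst Cfsg.Agent.Nodes.WittU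
  Cfsg.Agent.TitsThree.Siegel Cfsg.Agent.TitsThree.SiegelGen
  Cfsg.Agent.TitsThree.WittFrame Cfsg.Agent.TitsThree.WBridge Cfsg.Agent.TitsThree.WittWeyl
  Cfsg.Agent.TitsThree.FrameCN
open Cfsg.Agent.Nodes.WittRoot (Mono)
open Cfsg.Agent.Nodes.WittRGD (Tor)
open Cfsg.Agent.H905.Md Cfsg.Agent.H915.LD Cfsg.Agent.H925.Nat Cfsg.Agent.H911
open Cfsg.Agent.H67.Cross
open Cfsg.Agent.Omega.CR Cfsg.Agent.Omega.FOne.Lift.Sd
open Cfsg.Agent.KFacts.MulOdd.Inst (Lv)
open Cfsg.Agent.OddHalf.NI.Mult (up lo dg Coord)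
open Cfsg.Agent.H156.Ppd Cfsg.Agent.H156.Ppd.PPlus
open Cfsg Cfsg.Geo
open scoped MatrixGroups Matrix

universe u

/-! ### the longest element of type `D₅` -/

theorem w0_five {W : Type*} [Group W] (cs : CoxeterSystem (TypeD.M 3) W) {A : Fin 5 → Fin 5 → ℤ}
    (h : IsCartan (TypeD.M 3) A) (hA : A = mAD5) : ∃ w : W, ∀ i, rep cs h w (sr i) = -sr (Equiv.swap (3 : Fin 5) 4 i) := by
  subst hA
  refine ⟨cs.wordProd [0, 1, 2, 3, 4, 0, 1, 2, 3, 4, 0, 1, 2, 3, 4, 0, 1, 2, 3, 4], fun i => ?_⟩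
  funext m
  have h1 := congrFun (H905.DC.co_wordProd cs h m [0, 1, 2, 3, 4, 0, 1, 2, 3, 4, 0, 1, 2, 3, 4, 0, 1, 2, 3, 4]) i
  change rep cs h _ (sr i) m = _ at h1
  rw [h1]
  clear h1
  revert i m
  decide +kernel

theorem swap_five : ∀ i i' : Fin 5, 3 ≤ (i : ℕ) → 3 ≤ (i' : ℕ) → i ≠ i' → Equiv.swap (3 : Fin 5) 4 i = i' := by
  decide

/-! ### bilinear forms -/

section form

open Matrix Cfsg.Agent.H987.EP Cfsg.Agent.H987.EP.SForm

variable {ι : Type} [Fintype ι] [DecidableEq ι] {F : Type*} [Field F] {f : (ι → F) → (ι → F) → F}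

/-- **The hypothesis of `mem_Jx_opp`, over the field itself.** -/
theorem hsd_self {G : Type*} [Group G] {φ : G →* GL ι F} (h : SForm (RingEquiv.refl F) f)
    (hf : ∀ g x y, f ((φ g : Matrix ι ι F) *ᵥ x) ((φ g : Matrix ι ι F) *ᵥ y) = f x y) (B : Subgroup G) :
    Module.finrank F (fx (lrep φ) B) = Module.finrank F (fx (dualRep (lrep φ)) B) := by
  set C : Matrix ι ι F := _root_.Cfsg.Agent.H987.EP.SForm.gram f with hC
  have hdet : C.det ≠ 0 := h.det_gram
  have hun : C⁻¹ * C = 1 := Matrix.nonsing_inv_mul C (isUnit_iff_ne_zero.2 hdet)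
  have hun' : C * C⁻¹ = 1 := Matrix.mul_nonsing_inv C (isUnit_iff_ne_zero.2 hdet)
  -- the isometries
  have hiso : ∀ g, (mrep φ g)ᵀ * C * mrep φ g = C := by
    intro g
    have h1 := h.isom (hf g)
    have e : (φ g : Matrix ι ι F).map (RingEquiv.refl F) = (φ g : Matrix ι ι F) := by
      ext i j
      rfl
    rw [e] at h1
    exact h1
  -- the linear isomorphism
  let Θ : (ι → F) ≃+ Module.Dual F (ι → F) :=
    { toFun := fun y => dotProductEquiv F ι (C *ᵥ y)
      invFun := fun ψ => C⁻¹ *ᵥ (dotProductEquiv F ι).symm ψ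
      left_inv := fun y => by
        beta_reduce
        rw [LinearEquiv.symm_apply_apply, Matrix.mulVec_mulVec, hun, Matrix.one_mulVec]
      right_inv := fun ψ => by
        beta_reduce
        rw [Matrix.mulVec_mulVec, hun', Matrix.one_mulVec, LinearEquiv.apply_symm_apply]
      map_add' := fun x y => by
        rw [← map_add, ← Matrix.mulVec_add] }
  refine finrank_fx_of_semilinear (RingEquiv.refl F) Θ (fun c v => ?_) (fun g v => ?_) B
  · change dotProductEquiv F ι (C *ᵥ (c • v)) = c • dotProductEquiv F ι (C *ᵥ v)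
    rw [← map_smul, ← Matrix.mulVec_smul]
  · change dotProductEquiv F ι (C *ᵥ (lrep φ g v)) = dualRep (lrep φ) g (dotProductEquiv F ι (C *ᵥ v))
    have e2 : C * mrep φ g = (mrep φ g⁻¹)ᵀ * C := by
      have h3 : (mrep φ g⁻¹)ᵀ * ((mrep φ g)ᵀ * C * mrep φ g) = (mrep φ g⁻¹)ᵀ * C := by rw [hiso]
      rw [← h3, ← Matrix.mul_assoc, ← Matrix.mul_assoc, ← Matrix.transpose_mul, ← map_mul, mul_inv_cancel, map_one,
        Matrix.transpose_one, Matrix.one_mul]
    have e1 : C *ᵥ (lrep φ g v) = (mrep φ g⁻¹)ᵀ *ᵥ (C *ᵥ v) := by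
      rw [Matrix.mulVec_mulVec, ← e2, ← Matrix.mulVec_mulVec]
      rfl
    rw [e1]
    ext i
    simp only [LinearMap.comp_apply, dualRep_apply, dotProductEquiv_apply_apply, LinearMap.single_apply, lin_apply]
    rw [Matrix.mulVec_transpose, Matrix.dotProduct_mulVec]

end form

/-! ### the core -/

/-- **`PΩ⁺_{2l}(2)` in its own characteristic.** -/
theorem core_pplus {ι : Type} [Fintype ι] [DecidableEq ι] {F : Type u} [Field F] [Finite F] {P : Subgroup (GL ι F)}
    (hC : Core P) (h13 : 13 ≤ Fintype.card ι) [CharP F 2] {K : Type} [Field K] [Fintype K] [CharP K 2]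
    (hK : Fintype.card K = 2) {l : ℕ} (hl : 4 ≤ l) (e : Soc P ≃* POmega K (quadFormPlus l K)) {e' : ℕ}
    (he : Exp l e') : Nat.card F = 2 ∧
      ((∃ Q₁ : (ι → F) → F, IsNondegenerateQuadraticForm Q₁ ∧ P = omegaGL Q₁) ∨ Big l e' (Fintype.card ι) ∨
        (l = 5 ∧ 16 ≤ Fintype.card ι ∧ ¬ ∃ f : (ι → F) → (ι → F) → F, H987.EP.SForm (RingEquiv.refl F) f ∧
          FixesForm (matrixSet P) f)) := by
  classical
  have hp : Fact (Nat.Prime 2) := ⟨Nat.prime_two⟩
  obtain ⟨d, rfl⟩ : ∃ d, l = d + 2 := ⟨l - 2, by omega⟩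
  have hG : _root_.Cfsg.Agent.LieClassical.OrthTrans.Good (plusForm (d + 2) K) := by
    apply good_of_finite (nondeg_plusForm (d + 2) K)
    rw [Module.finrank_fintype_fun_eq_card, Fintype.card_sum, Fintype.card_fin]
    omega
  rw [← coe_plusForm] at e
  have hfin := hfin (K := K) d
  have hA := amb_plus (F := K) (d + 2)
  have h0 := adm_plus (F := K) (d + 2)
  have hWf : Finite (TypeD.M d).Group := TypeD.finite_W (TypeD.M d).toCoxeterSystem
  have hR := rgd_restrict (rgdD hA h0 (TypeD.M d).toCoxeterSystem (p := 2))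
    (E (plusForm (d + 2) K)) (fun x _ => rgD_le _ hA x) (fun i => WittRGDD.nn_mem hA i)
  have hperf : commutator ↥(E (plusForm (d + 2) K)) = ⊤ := Five.commutator_top hG.E_perfect
  have hG1 : G1 (TypeD.M d).toCoxeterSystem (TypeD.isCartan d) (XX d K) = ⊤ := by
    have h1 := G1D_eq_top (wplus (d + 2) K) (MonoidHom.id (E (plusForm (d + 2) K))) Function.surjective_id h0
      (TypeD.M d).toCoxeterSystem
    rw [← h1]
    congr 1
    funext x
    exact (Subgroup.map_id _).symm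
  obtain ⟨Y, _, _, f, φ, n₁, C⟩ := H156.Ppd.exists_cov hC hR hG1 hperf (toPOmega_surjective hG) e
  have hpp : (2 : ℕ).Prime := Nat.prime_two
  have rk : ∀ i, ∀ r : ℕ, r.Prime → r ≠ 2 → NoCE 2 r ↥(Lv (XX d K) i) := fun i r hr hne => noCE hpp i hr hne
  have hT : ∀ s ∈ (TT d K).comap f, ∀ t ∈ (TT d K).comap f, s * t = t * s :=
    comap_comm C.ker C.cop C.surj hR rk C.gen TT_comm
  have hpow : ∀ t ∈ (TT d K).comap f, t ^ 2 ^ 1 = t :=
    comap_pow C.ker C.cop C.surj hR rk C.gen TT_comm (TT_pow fun x => by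
      rw [pow_one, ← hK]; exact FiniteField.pow_card x)
  have hD := C.finrank_D hC hT
  obtain ⟨j, hj1, hj⟩ := C.exists_j hC hT one_ne_zero hpow
  rw [pow_one] at hj
  have hF2 : Nat.card F = 2 := by
    have h1 : Nat.card F ∣ 2 := by
      rw [← hj]
      exact dvd_pow_self _ (by omega)
    have h2 : 1 < Nat.card F := Finite.one_lt_card
    exact (Nat.dvd_prime Nat.prime_two).1 h1 |>.resolve_left (by omega)
  refine ⟨hF2, ?_⟩
  have hnV := C.nontriv hC
  have hdim : Module.finrank F (ι → F) = Fintype.card ι := Module.finrank_fintype_fun_eq_card F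
  by_cases hd4 : d = 2
  · subst hd4
    have h1 := dBigFour mAD4_eq C.rgd (C.hirr hC) C.gen (C.hnt hC) hD
    rw [hdim] at h1
    rcases h1 with h1 | h1
    · omega
    · exact Or.inr (Or.inl (big_four he h1))
  · have hd3 : 3 ≤ d := by omega
    rcases dBig C.rgd (C.hirr hC) hd3 C.gen (C.hnt hC) hD he with ⟨hJ, hL⟩ | hb | ⟨hd, h16, i, i', hi, hi', hne, hiJ, hiJ'⟩
    · left
      obtain ⟨σ, θ, hθ⟩ := C.ident hC (ψ := _root_.Cfsg.Agent.H925.Nat.mt (E (plusForm (d + 2) K))) (o := (0 : Fin (d + 2)))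
        (span_E hG (by rw [Fintype.card_sum, Fintype.card_fin]; omega))
        (natAt_D hA (by omega) rfl (TypeD.M d).toCoxeterSystem)
        (fixD (by omega) rfl (TypeD.M d).toCoxeterSystem) (surjD hA rfl) hR hJ hD hL
      obtain ⟨τ, rfl⟩ := ringEquiv_of_surj σ (identify_surj hC hθ)
      have hCj : CjOf (omegaGL (quadFormPlus (d + 2) F)) P := by
        refine cjOf_of (mem_omega_iff'' hG) (map_omega_glm τ fun v => ?_) hθ
        rw [coe_plusForm]
        exact quadFormPlus_map τ v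
      obtain ⟨Q₁, hQ₁, hP, -⟩ := hCj.omega_form (by
        rw [← coe_plusForm]
        exact H925.isND_of_nondeg (nondeg_plusForm (d + 2) F))
      exact ⟨Q₁, hQ₁, hP⟩
    · rw [hdim] at hb
      exact Or.inr (Or.inl hb)
    · right; right
      rw [hdim] at h16
      subst hd
      refine ⟨rfl, h16, ?_⟩
      rintro ⟨g, hg, hgP⟩
      obtain ⟨w, hw⟩ := w0_five (TypeD.M 3).toCoxeterSystem (TypeD.isCartan 3) mAD5_eq
      have hφ : ∀ y (u v : ι → F), g ((φ y : Matrix ι ι F) *ᵥ u) ((φ y : Matrix ι ι F) *ᵥ v) = g u v := by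
        intro y u v
        refine hgP _ ⟨φ y, ?_, rfl⟩ u v
        have : φ y ∈ φ.range := ⟨y, rfl⟩
        rwa [C.range] at this
      have h1 := H987.EP.mem_Jx_opp C.rgd (C.hirr hC) (hsd_self hg hφ) hw i
      rw [swap_five i i' hi hi' hne] at h1
      exact hiJ (h1.2 hiJ')

/-! ### the row -/

section final

open Cfsg.Agent.H274.EPO Cfsg.Agent.H914

variable {Q : Type} [Group Q] [Finite Q] {A : Subgroup Q} {Γ : Subgroup (MulAut Q)} {ι : Type} [Fintype ι]
    [DecidableEq ι] {F : Type} [Field F] [Fintype F] {S P : Subgroup (GL ι F)}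

/-- **S3499-VII13-PPlus**, with the bound for the order as a hypothesis. -/
theorem own_pplus_of (x : H419.EP.Big A Γ S P) (K : Type) [Field K] [Fintype K] (hc : ringChar F = ringChar K)
    (hK : Fintype.card K = 2) (l : ℕ) (hl : 4 ≤ l)
    (hS : Nonempty (H419.EP.socle P ≃* Cfsg.POmega K (Cfsg.quadFormPlus l K))) {e : ℕ}
    (hUB : Nat.card Q ≤ Nat.card A ^ e) (he : e ≤ 5 ∨ 7 ≤ l ∧ e ≤ l) : False := by
  obtain ⟨E⟩ := hS
  have hC : Core P := core_of_residual x.core
  have hK2 : CharP K 2 := H12.EP.BT.charP_two hK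
  have hF2 : CharP F 2 := by
    have h1 : ringChar F = 2 := by
      rw [hc]
      exact ringChar.eq K 2
    rw [← h1]
    exact ringChar.charP F
  obtain ⟨hF, h⟩ := core_pplus hC x.thirteen hK hl E he
  have hF' : Fintype.card F = 2 := by rw [← hF, Nat.card_eq_fintype_card]
  have hfin : Finite (POmega K (quadFormPlus l K)) := inferInstance
  have hA1 : Nat.card A ≤ 2 ^ (2 * l ^ 2 - l + 5) := by
    refine ((x.hasSoc' E).card_le.trans (H576.HT.aut_plus hl)).trans ?_
    rw [hK]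
    calc 12 * 2 ^ (2 * l ^ 2 - l + 1) ≤ 2 ^ 4 * 2 ^ (2 * l ^ 2 - l + 1) := Nat.mul_le_mul_right _ (by norm_num)
      _ = 2 ^ (2 * l ^ 2 - l + 5) := by
        rw [← pow_add]
        congr 1
        omega
  have hQ1 : Nat.card Q ≤ 2 ^ (e * (2 * l ^ 2 - l + 5)) := by
    refine hUB.trans ((Nat.pow_le_pow_left hA1 e).trans (le_of_eq ?_))
    rw [← pow_mul, mul_comm]
  rcases h with ⟨Q₁, h1, h2⟩ | hb | ⟨hl5, h16, hno⟩
  · exact no_omega x h1 h2
  · have h1 := x.ord
    rw [hF'] at h1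
    have h2 : 8 * Nat.card Q ≤ 2 ^ (e * (2 * l ^ 2 - l + 5) + 3) := by
      rw [pow_add]
      omega
    have h3 := (Nat.pow_le_pow_iff_right (by norm_num : 1 < 2)).1 (h1.trans h2)
    unfold Big at hb
    omega
  · subst hl5
    have he5 : e ≤ 5 := by
      rcases he with he | ⟨h7, he⟩
      · exact he
      · omega
    have hfix : ∀ {Qf : (ι → F) → F}, IsNondegenerateQuadraticForm Qf → S = omegaGL Qf → False := by
      intro Qf hQ hSo
      exact hno ⟨_, H987.EP.SForm.of_quadratic hQ,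
        fixesForm_polar (fixes_of_le x.le_S (by rw [hSo]; exact fixes_omegaGL))⟩
    rcases x.kind with ⟨-, ho, -, -, -⟩ | ⟨f, -, -, h3, -, -, -⟩ | ⟨q, hq, σ, f, -, -, -, -, -, -⟩ |
      ⟨Qf, hQ, hSo, -, -⟩
    · rw [hF'] at ho
      have h1 := (Nat.pow_le_pow_iff_right (by norm_num : 1 < 2)).1 (ho.trans hQ1)
      have h2 : 16 ^ 2 ≤ Fintype.card ι ^ 2 := Nat.pow_le_pow_left h16 2
      norm_num only [_root_.tsub_le_iff_right] at h1 h2
      omega
    · omega
    · rw [hF'] at hq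
      have h1 : q ≤ 1 ∨ 2 ≤ q := by omega
      rcases h1 with h1 | h1
      · have : q ^ 2 ≤ 1 ^ 2 := Nat.pow_le_pow_left h1 2
        omega
      · have : 2 ^ 2 ≤ q ^ 2 := Nat.pow_le_pow_left h1 2
        omega
    · exact hfix hQ hSo

theorem sq_le_sixty (l : ℕ) (hl : 8 ≤ l) : 2 * l ^ 2 + l ≤ 5 * 60 ^ (l - 4) := by
  induction l, hl using Nat.le_induction with
  | base => norm_num
  | succ n hn ih =>
    have e : n + 1 - 4 = (n - 4) + 1 := by omega
    have e3 : 60 ^ (n - 4 + 1) = 60 ^ (n - 4) * 60 := pow_succ _ _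
    rw [e, e3]
    have e2 : 2 * (n + 1) ^ 2 + (n + 1) = 2 * n ^ 2 + 5 * n + 3 := by ring
    rw [e2]
    have h1 : n * 8 ≤ n * n := Nat.mul_le_mul_left _ hn
    have h2 : n ^ 2 = n * n := by ring
    (clear * - hn ih; omega)

/-- **S3499-VII13-PPlus.** -/
theorem own_pplus_two (hg : H59.EP.TwoGen.{0}) (x : H419.EP.Big A Γ S P) (K : Type) [Field K] [Fintype K] (hc : ringChar F = ringChar K)
    (hK : Fintype.card K = 2) (l : ℕ) (hl : 4 ≤ l)
    (hS : Nonempty (H419.EP.socle P ≃* Cfsg.POmega K (Cfsg.quadFormPlus l K))) : False := by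
  have hS' := hS
  obtain ⟨E⟩ := hS'
  have hL : IsSimpleGroup (Cfsg.POmega K (Cfsg.quadFormPlus l K)) := by
    have := x.core.simple
    exact E.symm.isSimpleGroup
  have hLn : ¬ ∀ a b : Cfsg.POmega K (Cfsg.quadFormPlus l K), a * b = b * a := by
    intro h
    refine x.core.nonabelian ⟨⟨fun a b => ?_⟩⟩
    apply E.injective
    rw [map_mul, map_mul]
    exact h _ _
  have key : ∀ j : ℕ, 1 ≤ j → 2 * l ^ 2 + l ≤ 5 * 60 ^ j → Nat.card Q ≤ Nat.card A ^ (4 + j) := by
    intro j hj1 hj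
    have h1 := H12.EP.BT.ub_plus_two x.simple x.ept hg hK hl (x.hasSoc' E) hL hLn hj1 hj
    omega
  rcases Nat.lt_or_ge 11 l with h12 | h12
  · refine own_pplus_of x K hc hK l hl hS (key (l - 4) (by omega) (sq_le_sixty l (by omega))) (Or.inr ⟨by omega, by omega⟩)
  · refine own_pplus_of x K hc hK l hl hS (key 1 le_rfl ?_) (Or.inl le_rfl)
    have : l ^ 2 ≤ 11 ^ 2 := Nat.pow_le_pow_left h12 2
    omega

end final

end Cfsg.Agent.H947.EPO
end
end
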